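import Cfsg.Agent.Lib.Helper8.M23Idx.Main

/-!
# General lemmas for the subgroups of given index in `M24`

Point stabilisers in subgroups of `M24` and the orbit–stabiliser theorem; an element of prime order greater than the
index of a subgroup lies in the subgroup; Sylow counting with the full normaliser of a subgroup of prime order.
-/

set_option autoImplicit false

namespace Cfsg.Agent.Lib.Helper8.M24Idx

open Cfsg Cfsg.Agent.Lib.Helper6.Golay Cfsg.Agent.Lib.Helper6.PermChain Cfsg.Agent.Lib.Helper8.M22Idx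
  Cfsg.Agent.Lib.Helper8.M23Idx
open scoped Pointwise

/-- the stabiliser of a point in a group of permutations -/
def ptStab (K : Subgroup (Equiv.Perm GolayPt)) (p : GolayPt) : Subgroup (Equiv.Perm GolayPt) :=
  K ⊓ MulAction.stabilizer (Equiv.Perm GolayPt) p

theorem mem_ptStab {K : Subgroup (Equiv.Perm GolayPt)} {p : GolayPt} {g : Equiv.Perm GolayPt} :
    g ∈ ptStab K p ↔ g ∈ K ∧ g p = p := by
  rw [ptStab, Subgroup.mem_inf, MulAction.mem_stabilizer_iff]
  rfl

theorem ptStab_le (K : Subgroup (Equiv.Perm GolayPt)) (p : GolayPt) : ptStab K p ≤ K := inf_le_left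

/-- the orbit–stabiliser theorem -/
theorem card_orbit_mul_card_inf_stabilizer {Γ : Type*} [Group Γ] {X : Type*} [MulAction Γ X]
    (K : Subgroup Γ) (a : X) :
    Nat.card (MulAction.orbit K a) * Nat.card (K ⊓ MulAction.stabilizer Γ a : Subgroup Γ) = Nat.card K := by
  have h := Nat.card_congr (MulAction.orbitProdStabilizerEquivGroup K a)
  rw [Nat.card_prod] at h
  rw [← map_subtype_stabilizer, Subgroup.card_map_of_injective K.subtype_injective]
  exact h

theorem card_orbit_mul_card_ptStab (K : Subgroup (Equiv.Perm GolayPt)) (p : GolayPt) :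
    Nat.card (MulAction.orbit K p) * Nat.card (ptStab K p) = Nat.card K :=
  card_orbit_mul_card_inf_stabilizer K p

theorem ptStab_le_fixL {K : Subgroup (Equiv.Perm GolayPt)} (hK : K ≤ M24) (p : GolayPt) :
    ptStab K p ≤ fixL M24 [p] := by
  intro g hg
  obtain ⟨h1, h2⟩ := mem_ptStab.1 hg
  rw [mem_fixL]
  refine ⟨hK h1, ?_⟩
  intro q hq
  simp only [List.mem_cons, List.not_mem_nil, or_false] at hq
  rw [hq]
  exact h2

theorem card_ptStab_dvd {K : Subgroup (Equiv.Perm GolayPt)} (hK : K ≤ M24) (p : GolayPt) :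
    Nat.card (ptStab K p) ∣ 10200960 := by
  have := Subgroup.card_dvd_of_le (ptStab_le_fixL hK p)
  rwa [card_fixL_single] at this

theorem card_golayPt : Nat.card GolayPt = 24 := by
  rw [Nat.card_eq_fintype_card]
  decide

theorem card_orbit_le (K : Subgroup (Equiv.Perm GolayPt)) (p : GolayPt) :
    Nat.card (MulAction.orbit K p) ≤ 24 := by
  rw [Nat.card_coe_set_eq, ← card_golayPt]
  exact Set.ncard_le_card _

theorem card_orbit_pos (K : Subgroup (Equiv.Perm GolayPt)) (p : GolayPt) :
    0 < Nat.card (MulAction.orbit K p) := by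
  have : Nonempty (MulAction.orbit K p) := ⟨⟨p, MulAction.mem_orbit_self p⟩⟩
  exact Nat.card_pos

/-- a subgroup with an orbit of 24 points is transitive -/
theorem exists_of_card_orbit {K : Subgroup (Equiv.Perm GolayPt)} {p : GolayPt}
    (h : Nat.card (MulAction.orbit K p) = 24) (q : GolayPt) : ∃ g ∈ K, g p = q := by
  have huniv : MulAction.orbit K p = Set.univ := by
    apply Set.eq_of_subset_of_ncard_le (Set.subset_univ _) _ (Set.toFinite _)
    rw [Set.ncard_univ, card_golayPt, ← Nat.card_coe_set_eq, h]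
  have : q ∈ MulAction.orbit K p := by rw [huniv]; trivial
  exact mem_orbit_sub.1 this

/-- an element of prime order greater than the index of a subgroup lies in the subgroup -/
theorem mem_of_prime_order_gt_index {Γ : Type*} [Group Γ] (D X : Subgroup Γ) [Finite D] (hXD : X ≤ D)
    {p k : ℕ} (hp : p.Prime) (hidx : Nat.card D = k * Nat.card X) (hk : k < p)
    {g : Γ} (hg : g ∈ D) (hgo : orderOf g = p) : g ∈ X := by
  have : Finite X := Finite.of_injective (Subgroup.inclusion hXD) (Subgroup.inclusion_injective hXD)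
  set X' : Subgroup D := X.subgroupOf D with hX'
  have hcX : Nat.card X' = Nat.card X := Nat.card_congr (Subgroup.subgroupOfEquivOfLe hXD).toEquiv
  have hXpos : 0 < Nat.card X := Nat.card_pos
  have hindex : X'.index = k := by
    have h1 := Subgroup.card_mul_index X'
    rw [hcX, hidx, mul_comm] at h1
    exact Nat.eq_of_mul_eq_mul_right hXpos h1
  set g' : D := ⟨g, hg⟩ with hg'
  have : Fintype (D ⧸ X') := Fintype.ofFinite _
  have hlt : Fintype.card (D ⧸ X') < Fintype.card (Fin p) := by
    rw [Fintype.card_fin, ← Nat.card_eq_fintype_card]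
    show X'.index < p
    rw [hindex]
    exact hk
  obtain ⟨i, j, hij, he⟩ :=
    Fintype.exists_ne_map_eq_of_card_lt (fun i : Fin p => ((g' ^ (i : ℕ) : D) : D ⧸ X')) hlt
  -- without loss of generality `i < j`
  have key : ∀ i j : Fin p, i < j → ((g' ^ (i : ℕ) : D) : D ⧸ X') = ((g' ^ (j : ℕ) : D) : D ⧸ X') → g ∈ X := by
    intro i j hlt he
    rw [QuotientGroup.eq] at he
    have hpow : (g' ^ (i : ℕ))⁻¹ * g' ^ (j : ℕ) = g' ^ ((j : ℕ) - (i : ℕ)) := by
      rw [inv_mul_eq_iff_eq_mul, ← pow_add]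
      congr 1
      have : (i : ℕ) < (j : ℕ) := hlt
      omega
    rw [hpow, hX', Subgroup.mem_subgroupOf] at he
    have he' : g ^ ((j : ℕ) - (i : ℕ)) ∈ X := by simpa [hg'] using he
    have hcop : Nat.Coprime ((j : ℕ) - (i : ℕ)) (orderOf g) := by
      rw [hgo]
      apply Nat.Coprime.symm
      rw [Nat.Prime.coprime_iff_not_dvd hp]
      intro hdvd
      have h1 : (j : ℕ) - (i : ℕ) < p := lt_of_le_of_lt (Nat.sub_le _ _) j.2
      have h2 : 0 < (j : ℕ) - (i : ℕ) := by
        have : (i : ℕ) < (j : ℕ) := hlt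
        omega
      exact absurd (Nat.le_of_dvd h2 hdvd) (not_le.2 h1)
    obtain ⟨m, hm⟩ := exists_pow_eq_self_of_coprime hcop
    rw [← hm]
    exact X.pow_mem he' m
  rcases lt_or_gt_of_ne hij with h | h
  · exact key i j h he
  · exact key j i h he.symm

/-- Sylow counting with the full normaliser of a subgroup of prime order -/
theorem sylow_count_normalizer {Γ : Type*} [Group Γ] (K : Subgroup Γ) [Finite K] (z : Γ) (hz : z ∈ K)
    (p : ℕ) [Fact p.Prime] (hord : orderOf z = p) (hp2 : ¬ p ^ 2 ∣ Nat.card K) :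
    ∃ n : ℕ, Nat.card K = Nat.card (K ⊓ Subgroup.normalizer ((Subgroup.zpowers z : Subgroup Γ) : Set Γ) :
      Subgroup Γ) * n ∧ n ≡ 1 [MOD p] := by
  have hp : p.Prime := Fact.out
  set z' : K := ⟨z, hz⟩ with hz'
  have hord' : orderOf z' = p := by
    rw [← hord]
    exact Subgroup.orderOf_mk z hz
  have hK0 : Nat.card K ≠ 0 := Nat.card_pos.ne'
  have hpK : p ∣ Nat.card K := hord' ▸ orderOf_dvd_natCard z'
  have hfac : (Nat.card K).factorization p = 1 := factorization_eq_one_of hp hK0 hpK hp2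
  have hcard : Nat.card (Subgroup.zpowers z') = p ^ (Nat.card K).factorization p := by
    rw [hfac, pow_one, Nat.card_zpowers, hord']
  let Q : Sylow p K := Sylow.ofCard (Subgroup.zpowers z') hcard
  have hQ : (Q : Subgroup K) = Subgroup.zpowers z' := Sylow.coe_ofCard _ hcard
  have hidx : Nat.card (Sylow p K) = (Subgroup.normalizer ((Q : Subgroup K) : Set K)).index :=
    Sylow.card_eq_index_normalizer Q
  have hmod : Nat.card (Sylow p K) ≡ 1 [MOD p] := card_sylow_modEq_one p K
  have hsub : (Subgroup.zpowers z : Subgroup Γ).subgroupOf K = Subgroup.zpowers z' := by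
    ext g
    rw [Subgroup.mem_subgroupOf, Subgroup.mem_zpowers_iff, Subgroup.mem_zpowers_iff]
    constructor
    · rintro ⟨k, hk⟩
      exact ⟨k, Subtype.ext (by simpa using hk)⟩
    · rintro ⟨k, hk⟩
      refine ⟨k, ?_⟩
      have := congrArg (fun t : K => (t : Γ)) hk
      simpa using this
  have hle : Subgroup.zpowers z ≤ K := by
    rw [Subgroup.zpowers_le]; exact hz
  have hnorm : (Subgroup.normalizer ((Subgroup.zpowers z : Subgroup Γ) : Set Γ)).subgroupOf K =
      Subgroup.normalizer ((Q : Subgroup K) : Set K) := by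
    rw [hQ, ← hsub]
    exact Subgroup.subgroupOf_normalizer_eq hle
  refine ⟨(Subgroup.normalizer ((Q : Subgroup K) : Set K)).index, ?_, ?_⟩
  · rw [← hnorm, inf_comm, ← Subgroup.subgroupOf_map_subtype,
      Subgroup.card_map_of_injective K.subtype_injective, Subgroup.card_mul_index]
  · rw [← hidx]
    exact hmod

/-- an element conjugating a generator of a finite cyclic group into the group, and whose inverse does too,
normalises the group -/
theorem mem_normalizer_zpowers {Γ : Type*} [Group Γ] {g z : Γ} (h1 : g * z * g⁻¹ ∈ Subgroup.zpowers z)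
    (h2 : g⁻¹ * z * g ∈ Subgroup.zpowers z) :
    g ∈ Subgroup.normalizer ((Subgroup.zpowers z : Subgroup Γ) : Set Γ) := by
  rw [Subgroup.mem_normalizer_iff]
  intro h
  constructor
  · intro hh
    obtain ⟨k, rfl⟩ := Subgroup.mem_zpowers_iff.1 hh
    have : g * z ^ k * g⁻¹ = (g * z * g⁻¹) ^ k := by
      rw [conj_zpow]
    rw [this]
    exact Subgroup.zpow_mem _ h1 k
  · intro hh
    obtain ⟨k, hk⟩ := Subgroup.mem_zpowers_iff.1 hh
    have : h = (g⁻¹ * z * g) ^ k := by
      have e : (g⁻¹ * z * g) ^ k = g⁻¹ * z ^ k * g := by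
        have := conj_zpow (a := g⁻¹) (b := z) (i := k)
        rw [inv_inv] at this
        exact this
      rw [e, hk]
      group
    rw [this]
    exact Subgroup.zpow_mem _ h2 k

/-- conjugating a subgroup of `M24` so that it contains a given element of prime order -/
theorem exists_conj_mem {G : Subgroup (Equiv.Perm GolayPt)} (K : Subgroup (Equiv.Perm GolayPt)) (hK : K ≤ G)
    (p : ℕ) [Fact p.Prime] (hp2 : ¬ p ^ 2 ∣ Nat.card G) (hpK : p ∣ Nat.card K)
    {z : Equiv.Perm GolayPt} (hz : z ∈ G) (hzo : orderOf z = p) :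
    ∃ τ ∈ G, z ∈ K.map (MulAut.conj τ).toMonoidHom := by
  obtain ⟨x', hx'⟩ := exists_prime_orderOf_dvd_card' p hpK
  have hx'o : orderOf (x' : Equiv.Perm GolayPt) = p := by rw [Subgroup.orderOf_coe]; exact hx'
  obtain ⟨τ, hτ, hτx⟩ := exists_conj_zpowers G p hp2 (x' : Equiv.Perm GolayPt) z (hK x'.2) hz hx'o hzo
  refine ⟨τ, hτ, ?_⟩
  have hx2 : τ * (x' : Equiv.Perm GolayPt) * τ⁻¹ ∈ K.map (MulAut.conj τ).toMonoidHom := ⟨x', x'.2, rfl⟩
  have ho2 : orderOf (τ * (x' : Equiv.Perm GolayPt) * τ⁻¹) = p := by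
    have := MulEquiv.orderOf_eq (MulAut.conj τ) (x' : Equiv.Perm GolayPt)
    rw [MulAut.conj_apply] at this
    rw [this, hx'o]
  have hzp : Subgroup.zpowers (τ * (x' : Equiv.Perm GolayPt) * τ⁻¹) = Subgroup.zpowers z := by
    apply Subgroup.eq_of_le_of_card_ge
    · rw [Subgroup.zpowers_le]; exact hτx
    · rw [Nat.card_zpowers, Nat.card_zpowers, ho2, hzo]
  have h1 : z ∈ Subgroup.zpowers (τ * (x' : Equiv.Perm GolayPt) * τ⁻¹) := by
    rw [hzp]; exact Subgroup.mem_zpowers z
  exact (Subgroup.zpowers_le.2 hx2) h1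

theorem card_M24' : Nat.card M24 = 244823040 := card_M24

end Cfsg.Agent.Lib.Helper8.M24Idx
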