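import Cfsg.Agent.Lib.Helper8.M24Idx.NormZ2

/-!
# Subgroups of the stabiliser of `∞` containing `z`: Sylow counting and the orbit analysis

* `core'`: a subgroup of `G1` containing `z` and `t` whose order is not divisible by 23 stabilises the duad `{7, 13}` or
  the octad `o0`;
* the stabilisers `Ds`, `Do` of the duad and of the octad in `G1` have order exactly 40320;
* `sylow7_G1`: Sylow counting for a subgroup of `G1` containing `z`;
* `orbit_mask`: the orbits of a group containing `z` and `t` are unions of the four orbits of `⟨z, t⟩`.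
-/

set_option autoImplicit false

namespace Cfsg.Agent.Lib.Helper8.M24Idx

open Cfsg Cfsg.Agent.Lib.Helper6.Golay Cfsg.Agent.Lib.Helper6.PermChain Cfsg.Agent.Lib.Helper8.M22Idx
  Cfsg.Agent.Lib.Helper8.M23Idx
open scoped Pointwise

/-- the stabiliser of the duad `{7, 13}` in the stabiliser of `∞` -/
def Ds : Subgroup (Equiv.Perm GolayPt) := G1 ⊓ MulAction.stabilizer (Equiv.Perm GolayPt) s0

/-- the stabiliser of the octad `o0` in the stabiliser of `∞` -/
def Do : Subgroup (Equiv.Perm GolayPt) := G1 ⊓ MulAction.stabilizer (Equiv.Perm GolayPt) o0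

theorem mem_Ds {g : Equiv.Perm GolayPt} : g ∈ Ds ↔ g ∈ M24 ∧ g (pt 23) = pt 23 ∧ g • s0 = s0 := by
  rw [Ds, Subgroup.mem_inf, mem_G1, and_assoc]
  exact Iff.rfl

theorem mem_Do {g : Equiv.Perm GolayPt} : g ∈ Do ↔ g ∈ M24 ∧ g (pt 23) = pt 23 ∧ g • o0 = o0 := by
  rw [Do, Subgroup.mem_inf, mem_G1, and_assoc]
  exact Iff.rfl

theorem Ds_le : Ds ≤ G1 := inf_le_left
theorem Do_le : Do ≤ G1 := inf_le_left

theorem card_Ds : Nat.card Ds = 40320 := by
  apply le_antisymm card_stab_s0_le
  -- the orbit of the duad has at most 253 elements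
  have h := card_orbit_mul_card_inf_stabilizer G1 s0
  rw [card_G1] at h
  have hsub : MulAction.orbit G1 s0 ⊆ (↑((Finset.univ.erase (pt 23)).powersetCard 2) : Set (Finset GolayPt)) := by
    rintro _ ⟨g, rfl⟩
    rw [Finset.mem_coe, Finset.mem_powersetCard]
    have hg23 : (g : Equiv.Perm GolayPt) (pt 23) = pt 23 := (mem_G1.1 g.2).2
    constructor
    · intro p hp
      obtain ⟨q, hq, rfl⟩ := Finset.mem_smul_finset.1 hp
      rw [Finset.mem_erase]
      refine ⟨?_, Finset.mem_univ _⟩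
      intro h23
      have : q = pt 23 := (g : Equiv.Perm GolayPt).injective (h23.trans hg23.symm)
      rw [this] at hq
      revert hq
      decide
    · show ((g : Equiv.Perm GolayPt) • s0).card = 2
      rw [Finset.card_smul_finset, s0, card_fs]
      decide
  have hle : Nat.card (MulAction.orbit G1 s0) ≤ 253 := by
    rw [Nat.card_coe_set_eq]
    have := Set.ncard_le_ncard hsub (Finset.finite_toSet _)
    rw [Set.ncard_coe_finset, Finset.card_powersetCard, Finset.card_erase_of_mem (Finset.mem_univ _),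
      card_univ_golayPt] at this
    exact this.trans (by decide)
  show 40320 ≤ Nat.card (G1 ⊓ MulAction.stabilizer (Equiv.Perm GolayPt) s0 : Subgroup (Equiv.Perm GolayPt))
  nlinarith

theorem card_Do : Nat.card Do = 40320 := by
  apply le_antisymm card_stab_o0_le
  have h := card_orbit_mul_card_inf_stabilizer (M24 ⊓ MulAction.stabilizer (Equiv.Perm GolayPt) o0) (pt 23)
  rw [card_stab_o0] at h
  have hsub : MulAction.orbit (M24 ⊓ MulAction.stabilizer (Equiv.Perm GolayPt) o0 : Subgroup (Equiv.Perm GolayPt))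
      (pt 23) ⊆ (↑o0 : Set GolayPt) := by
    rintro _ ⟨g, rfl⟩
    have hg : (g : Equiv.Perm GolayPt) • o0 = o0 := MulAction.mem_stabilizer_iff.1 (Subgroup.mem_inf.1 g.2).2
    have h1 : (g : Equiv.Perm GolayPt) (pt 23) ∈ (g : Equiv.Perm GolayPt) • o0 :=
      Finset.smul_mem_smul_finset pt23_mem_o0
    rw [hg] at h1
    exact h1
  have hle : Nat.card (MulAction.orbit (M24 ⊓ MulAction.stabilizer (Equiv.Perm GolayPt) o0 :
      Subgroup (Equiv.Perm GolayPt)) (pt 23)) ≤ 8 := by
    rw [Nat.card_coe_set_eq]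
    have := Set.ncard_le_ncard hsub (Finset.finite_toSet _)
    rw [Set.ncard_coe_finset, o0_mem.2] at this
    exact this
  have e : Do = (M24 ⊓ MulAction.stabilizer (Equiv.Perm GolayPt) o0) ⊓
      MulAction.stabilizer (Equiv.Perm GolayPt) (pt 23) := by
    ext g
    rw [mem_Do]
    simp only [Subgroup.mem_inf, MulAction.mem_stabilizer_iff]
    constructor
    · rintro ⟨h1, h2, h3⟩
      exact ⟨⟨h1, h3⟩, h2⟩
    · rintro ⟨⟨h1, h3⟩, h2⟩
      exact ⟨h1, h2, h3⟩
  show 40320 ≤ Nat.card Do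
  rw [e]
  nlinarith

/-- the elements of `SZ` lie in both stabilisers -/
theorem NZ_le_Ds : NZ ≤ Ds := by
  intro g hg
  have hs := NZ_subset_SZ hg
  exact mem_Ds.2 ⟨hs.1, hs.2.1, (smul_of_mem_SZ hs).1⟩

theorem NZ_le_Do : NZ ≤ Do := by
  intro g hg
  have hs := NZ_subset_SZ hg
  exact mem_Do.2 ⟨hs.1, hs.2.1, (smul_of_mem_SZ hs).2⟩

/-- **a subgroup of the stabiliser of `∞` containing `z` and `t` whose order is not divisible by 23 stabilises the
duad or the octad** -/
theorem core' (K : Subgroup (Equiv.Perm GolayPt)) (hK : K ≤ G1) (h23 : ¬ 23 ∣ Nat.card K)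
    (hz : z ∈ K) (ht : t ∈ K) : K ≤ Ds ∨ K ≤ Do := by
  obtain ⟨m, hm, horb⟩ := orbit_pt7 K hK hz ht
  rcases hm with rfl | rfl | rfl | rfl
  · left
    intro g hg
    obtain ⟨h1, h2⟩ := mem_G1.1 (hK hg)
    exact mem_Ds.2 ⟨h1, h2, smul_fs_eq_of_orbit horb hg⟩
  · right
    intro g hg
    obtain ⟨hgM, hg23⟩ := mem_G1.1 (hK hg)
    refine mem_Do.2 ⟨hgM, hg23, ?_⟩
    have h9 := smul_fs_eq_of_orbit horb hg
    have hsub : o0 ⊆ fs 14559616 := by decide
    have h10 : g • fs 14559616 = fs 14559616 := by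
      have e : fs 14559616 = fs 6171008 ∪ {pt 23} := by decide
      rw [e, Finset.smul_finset_union, h9, Finset.smul_finset_singleton]
      congr 2
    have hgo : g • o0 ⊆ fs 14559616 := by
      rw [← h10]
      exact Finset.smul_finset_subset_smul_finset hsub
    have hoct : g • o0 ∈ octads := smul_mem_octads hgM o0_mem
    have hunion : (g • o0 ∪ o0).card ≤ 10 :=
      (Finset.card_le_card (Finset.union_subset hgo hsub)).trans (by rw [card_fs]; decide)
    have hinter : 6 ≤ (g • o0 ∩ o0).card := by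
      have := Finset.card_union_add_card_inter (g • o0) o0
      rw [hoct.2, o0_mem.2] at this
      omega
    obtain ⟨s, hs, hsc⟩ := Finset.exists_subset_card_eq (show 5 ≤ (g • o0 ∩ o0).card by omega)
    exact octad_unique hoct o0_mem hsc (hs.trans Finset.inter_subset_left) (hs.trans Finset.inter_subset_right)
  · right
    intro g hg
    obtain ⟨hgM, hg23⟩ := mem_G1.1 (hK hg)
    refine mem_Do.2 ⟨hgM, hg23, ?_⟩
    apply Finset.eq_of_subset_of_card_le
    · intro p hp
      obtain ⟨r, hr, rfl⟩ := Finset.mem_smul_finset.1 hp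
      have hr' : r ∉ MulAction.orbit K (pt 7) := by
        rw [horb]
        exact (by decide : ∀ q : GolayPt, q ∈ o0 → q ∉ fs 2225919) r hr
      have h1 : g r ∉ MulAction.orbit K (pt 7) := fun h => hr' ((orbit_inv hg r).1 h)
      rw [horb] at h1
      exact (by decide : ∀ q : GolayPt, q ∉ fs 2225919 → q ∈ o0) _ h1
    · rw [Finset.card_smul_finset]
  · exfalso
    have hdvd := orbit_card_dvd K (pt 7)
    have hc : Nat.card (MulAction.orbit K (pt 7)) = 23 := by
      have e : MulAction.orbit K (pt 7) = ↑(fs 8388607) := by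
        ext p
        rw [horb]
        rfl
      rw [e, Nat.card_coe_set_eq, Set.ncard_coe_finset, card_fs]
      decide
    rw [hc] at hdvd
    exact h23 hdvd

/-- Sylow counting for the element `z` in a subgroup of the stabiliser of `∞` -/
theorem sylow7_G1 (K : Subgroup (Equiv.Perm GolayPt)) (hK : K ≤ G1) (hz : z ∈ K)
    (h49 : ¬ 49 ∣ Nat.card K) :
    ∃ c n : ℕ, Nat.card K = 7 * c * n ∧ n % 7 = 1 ∧ c ∣ 6 ∧ (2 ∣ c → t ∈ K) ∧ (c = 6 → NZ ≤ K) := by
  have : Fact (Nat.Prime 7) := ⟨by norm_num⟩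
  obtain ⟨n, hn, hmod⟩ := sylow_count_normalizer K z hz 7 orderOf_z (by norm_num; exact h49)
  set N : Subgroup (Equiv.Perm GolayPt) :=
    K ⊓ Subgroup.normalizer ((Subgroup.zpowers z : Subgroup (Equiv.Perm GolayPt)) : Set (Equiv.Perm GolayPt))
    with hN
  have hNle : N ≤ NZ := by
    intro g hg
    obtain ⟨h1, h2⟩ := Subgroup.mem_inf.1 hg
    exact Subgroup.mem_inf.2 ⟨hK h1, h2⟩
  have hdvd : Nat.card N ∣ 42 := by
    have := Subgroup.card_dvd_of_le hNle
    rwa [card_NZ] at this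
  have hzN : z ∈ N := Subgroup.mem_inf.2 ⟨hz, (Subgroup.mem_inf.1 z_mem_NZ).2⟩
  have h7 : 7 ∣ Nat.card N := by
    have := orderOf_dvd_natCard (⟨z, hzN⟩ : N)
    rwa [Subgroup.orderOf_mk, orderOf_z] at this
  obtain ⟨c, hc⟩ := h7
  have hc6 : c ∣ 6 := by
    rw [hc] at hdvd
    exact (Nat.mul_dvd_mul_iff_left (by norm_num : 0 < 7)).1 (by simpa using hdvd)
  refine ⟨c, n, ?_, hmod, hc6, ?_, ?_⟩
  · rw [hn, hc]
  · intro h2
    have h2N : 2 ∣ Nat.card N := by rw [hc]; exact Dvd.dvd.mul_left h2 7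
    have : Fact (Nat.Prime 2) := ⟨by norm_num⟩
    obtain ⟨g, hg⟩ := exists_prime_orderOf_dvd_card' 2 h2N
    have hgo : orderOf (g : Equiv.Perm GolayPt) = 2 := by rw [Subgroup.orderOf_coe]; exact hg
    have hgS : (g : Equiv.Perm GolayPt) ∈ SZ := NZ_subset_SZ (hNle g.2)
    have hg2 : (g : Equiv.Perm GolayPt) * (g : Equiv.Perm GolayPt) = 1 := by
      rw [← pow_two, ← hgo, pow_orderOf_eq_one]
    have hg1 : (g : Equiv.Perm GolayPt) ≠ 1 := by
      intro h
      rw [h, orderOf_one] at hgo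
      norm_num at hgo
    have := eq_t_of_mem_SZ hgS hg2 hg1
    rw [← this]
    exact (Subgroup.mem_inf.1 g.2).1
  · intro h6
    have hcard : Nat.card N = Nat.card NZ := by rw [hc, h6, card_NZ]
    have : N = NZ := Subgroup.eq_of_le_of_card_ge hNle (le_of_eq hcard.symm)
    rw [← this]
    exact inf_le_left

end Cfsg.Agent.Lib.Helper8.M24Idx
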