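import Cfsg.Agent.Lib.Helper8.M24Idx.PartA2

/-!
# The normaliser of an element of order 5 in the stabiliser of a point of `M24`

`f5` is an element of order 5 of `M24` fixing the points `0`, `1`, `2` and `∞`, with four cycles of length 5.  An
element `g` of `M24` fixing `∞` with `g f5 = f5 ^ k g` permutes the fixed points `0`, `1`, `2` and is determined by `k`,
these images and the images of one point in each cycle; a staged search leaves 60 elements.
-/

set_option autoImplicit false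

namespace Cfsg.Agent.Lib.Helper8.M24Idx

open Cfsg Cfsg.Agent.Lib.Helper6.Golay Cfsg.Agent.Lib.Helper6.PermChain Cfsg.Agent.Lib.Helper8.M22Idx
  Cfsg.Agent.Lib.Helper8.M23Idx Cfsg.Agent.Lib.Helper8.M24Search
open scoped Pointwise

/-- the element of order 5 -/
def f5l : List ℕ := [0, 1, 2, 8, 5, 18, 16, 22, 20, 19, 21, 15, 10, 17, 11, 6, 14, 12, 9, 4, 7, 13, 3, 23]

def f5il : List ℕ := [0, 1, 2, 22, 19, 4, 15, 20, 3, 18, 12, 14, 17, 21, 16, 11, 6, 13, 5, 9, 8, 10, 7, 23]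

/-- the element of order 3 centralising it -/
def w3l : List ℕ := [1, 2, 0, 17, 4, 5, 7, 21, 12, 9, 15, 8, 11, 16, 3, 20, 22, 14, 18, 19, 10, 6, 13, 23]

def w3il : List ℕ := [2, 0, 1, 14, 4, 5, 21, 6, 11, 9, 20, 12, 8, 22, 17, 10, 13, 3, 18, 19, 15, 7, 16, 23]

/-- an element preserving the octad `o1` and moving `∞` -/
def e1l : List ℕ := [0, 19, 2, 14, 4, 1, 16, 12, 21, 5, 23, 22, 15, 3, 10, 8, 17, 11, 9, 18, 20, 7, 6, 13]

def e1il : List ℕ := [0, 5, 2, 13, 4, 9, 22, 21, 15, 18, 14, 17, 7, 23, 3, 12, 6, 16, 19, 1, 20, 8, 11, 10]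

/-- the powers of the element, packed -/
def f5ZP : ℕ := 3012129268067757090825749522254945483401786651515681366906803616795789093790679198997736851201197320220146900457294847910090899248899686173330416367771865451348943234961468811216928

def f5J : ℕ := 5235558028567054447784874603446272

def f5C : ℕ := 5481525733780308221185970240883777

def f5zpowF (m v : ℕ) : ℕ := getP 5 f5ZP (24 * m + v)

def f5jF (i : ℕ) : ℕ := getP 5 f5J i

def f5cF (i : ℕ) : ℕ := getP 5 f5C i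

def f5repL : List ℕ := [23, 0, 1, 2, 3, 4, 6, 10]

def f5good : List (List ℕ) := [[1, 23, 0, 1, 2, 3, 4, 6, 10],
  [1, 23, 0, 1, 2, 7, 9, 11, 17],
  [1, 23, 0, 1, 2, 8, 5, 16, 21],
  [1, 23, 0, 1, 2, 20, 18, 14, 13],
  [1, 23, 0, 1, 2, 22, 19, 15, 12],
  [1, 23, 1, 2, 0, 10, 18, 3, 16],
  [1, 23, 1, 2, 0, 12, 5, 22, 6],
  [1, 23, 1, 2, 0, 13, 19, 20, 11],
  [1, 23, 1, 2, 0, 17, 4, 7, 15],
  [1, 23, 1, 2, 0, 21, 9, 8, 14],
  [1, 23, 2, 0, 1, 6, 9, 12, 3],
  [1, 23, 2, 0, 1, 11, 5, 13, 7],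
  [1, 23, 2, 0, 1, 14, 4, 21, 20],
  [1, 23, 2, 0, 1, 15, 18, 17, 22],
  [1, 23, 2, 0, 1, 16, 19, 10, 8],
  [2, 23, 0, 2, 1, 3, 19, 12, 16],
  [2, 23, 0, 2, 1, 7, 18, 13, 15],
  [2, 23, 0, 2, 1, 8, 4, 10, 14],
  [2, 23, 0, 2, 1, 20, 5, 21, 11],
  [2, 23, 0, 2, 1, 22, 9, 17, 6],
  [2, 23, 1, 0, 2, 10, 5, 6, 8],
  [2, 23, 1, 0, 2, 12, 4, 15, 3],
  [2, 23, 1, 0, 2, 13, 9, 14, 7],
  [2, 23, 1, 0, 2, 17, 19, 11, 22],
  [2, 23, 1, 0, 2, 21, 18, 16, 20],
  [2, 23, 2, 1, 0, 6, 18, 22, 10],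
  [2, 23, 2, 1, 0, 11, 4, 20, 17],
  [2, 23, 2, 1, 0, 14, 19, 8, 13],
  [2, 23, 2, 1, 0, 15, 5, 7, 12],
  [2, 23, 2, 1, 0, 16, 9, 3, 21],
  [3, 23, 0, 2, 1, 3, 9, 13, 11],
  [3, 23, 0, 2, 1, 7, 5, 10, 16],
  [3, 23, 0, 2, 1, 8, 19, 17, 15],
  [3, 23, 0, 2, 1, 20, 4, 12, 6],
  [3, 23, 0, 2, 1, 22, 18, 21, 14],
  [3, 23, 1, 0, 2, 10, 4, 11, 7],
  [3, 23, 1, 0, 2, 12, 19, 14, 20],
  [3, 23, 1, 0, 2, 13, 18, 6, 3],
  [3, 23, 1, 0, 2, 17, 9, 16, 8],
  [3, 23, 1, 0, 2, 21, 5, 15, 22],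
  [3, 23, 2, 1, 0, 6, 5, 20, 13],
  [3, 23, 2, 1, 0, 11, 19, 3, 10],
  [3, 23, 2, 1, 0, 14, 9, 22, 12],
  [3, 23, 2, 1, 0, 15, 4, 8, 21],
  [3, 23, 2, 1, 0, 16, 18, 7, 17],
  [4, 23, 0, 1, 2, 3, 18, 15, 21],
  [4, 23, 0, 1, 2, 7, 4, 14, 12],
  [4, 23, 0, 1, 2, 8, 9, 6, 13],
  [4, 23, 0, 1, 2, 20, 19, 16, 17],
  [4, 23, 0, 1, 2, 22, 5, 11, 10],
  [4, 23, 1, 2, 0, 10, 19, 22, 14],
  [4, 23, 1, 2, 0, 12, 9, 7, 16],
  [4, 23, 1, 2, 0, 13, 5, 8, 15],
  [4, 23, 1, 2, 0, 17, 18, 20, 6],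
  [4, 23, 1, 2, 0, 21, 4, 3, 11],
  [4, 23, 2, 0, 1, 6, 4, 17, 8],
  [4, 23, 2, 0, 1, 11, 9, 21, 22],
  [4, 23, 2, 0, 1, 14, 18, 10, 7],
  [4, 23, 2, 0, 1, 15, 19, 13, 3],
  [4, 23, 2, 0, 1, 16, 5, 12, 20]]

def f5stages : List (List ℕ × List ℕ × List ℕ) := [([23], [], []),
  ([0, 1, 2], [], []),
  ([0, 1, 2], [], [8388611]),
  ([0, 1, 2], [], [8388615]),
  ([0, 1, 2, 3, 4, 5, 6, 7, 8, 9, 10, 11, 12, 13, 14, 15, 16, 17, 18, 19, 20, 21, 22, 23], [13631886], []),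
  ([0, 1, 2, 3, 4, 5, 6, 7, 8, 9, 10, 11, 12, 13, 14, 15, 16, 17, 18, 19, 20, 21, 22, 23], [786999], []),
  ([0, 1, 2, 3, 4, 5, 6, 7, 8, 9, 10, 11, 12, 13, 14, 15, 16, 17, 18, 19, 20, 21, 22, 23], [5275709], []),
  ([0, 1, 2, 3, 4, 5, 6, 7, 8, 9, 10, 11, 12, 13, 14, 15, 16, 17, 18, 19, 20, 21, 22, 23], [13062145], [])]

def f5 : Equiv.Perm GolayPt where
  toFun := lfun f5l
  invFun := lfun f5il
  left_inv := by intro p; revert p; decide
  right_inv := by intro p; revert p; decide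

def w3 : Equiv.Perm GolayPt where
  toFun := lfun w3l
  invFun := lfun w3il
  left_inv := by intro p; revert p; decide
  right_inv := by intro p; revert p; decide

def e1 : Equiv.Perm GolayPt where
  toFun := lfun e1l
  invFun := lfun e1il
  left_inv := by intro p; revert p; decide
  right_inv := by intro p; revert p; decide

theorem f5_coe : ⇑f5 = lfun f5l := rfl
theorem w3_coe : ⇑w3 = lfun w3l := rfl
theorem e1_coe : ⇑e1 = lfun e1l := rfl

theorem f5_mem : f5 ∈ M24 := mem_M24_of_basisTest (l := f5l) (by decide) f5_coe (by decide +kernel)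
theorem w3_mem : w3 ∈ M24 := mem_M24_of_basisTest (l := w3l) (by decide) w3_coe (by decide +kernel)
theorem e1_mem : e1 ∈ M24 := mem_M24_of_basisTest (l := e1l) (by decide) e1_coe (by decide +kernel)

theorem f5_pow_five : f5 ^ 5 = 1 := by
  apply Equiv.ext
  intro p; revert p; decide

theorem f5_ne_one : f5 ≠ 1 := by
  intro h
  have := congrFun (congrArg (fun g : Equiv.Perm GolayPt => ⇑g) h) (pt 3)
  revert this; decide

theorem orderOf_f5 : orderOf f5 = 5 :=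
  haveI : Fact (Nat.Prime 5) := ⟨by norm_num⟩
  orderOf_eq_prime f5_pow_five f5_ne_one

theorem f5_fix23 : f5 (pt 23) = pt 23 := by decide
theorem f5_fix0 : f5 (pt 0) = pt 0 := by decide
theorem f5_fix1 : f5 (pt 1) = pt 1 := by decide
theorem f5_fix2 : f5 (pt 2) = pt 2 := by decide
theorem w3_fix23 : w3 (pt 23) = pt 23 := by decide

theorem f5_mem_G1 : f5 ∈ G1 := mem_G1.2 ⟨f5_mem, f5_fix23⟩

/-- the table of the powers of `f5` -/
theorem f5_tab : ∀ (m : Fin 5) (v : Fin 24), idx ((f5 ^ (m : ℕ)) (pt v)) = f5zpowF m v := by decide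

/-- every point is a power of `f5` applied to the representative of its cycle -/
theorem f5_dec : ∀ i : Fin 24, pt i = (f5 ^ (f5jF i)) (pt (f5repL.getD (f5cF i) 0)) := by decide

theorem f5_rep : ∀ i : Fin 24, f5repL.getD (f5cF i) 0 < 24 ∧ f5cF i < f5repL.length := by decide

/-- the fixed points of the nontrivial powers of `f5` -/
theorem f5_fixed : ∀ (k : Fin 5) (v : Fin 24), (k : ℕ) ≠ 0 → f5zpowF k v = v →
    (v : ℕ) = 0 ∨ (v : ℕ) = 1 ∨ (v : ℕ) = 2 ∨ (v : ℕ) = 23 := by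
  decide

theorem f5_tests : testsOK f5cF 0 f5stages = true := by decide +kernel

set_option maxHeartbeats 4000000 in
theorem f5_search1 : search 5 f5zpowF f5jF f5cF f5good [1] f5stages = true := by decide +kernel

set_option maxHeartbeats 4000000 in
theorem f5_search2 : search 5 f5zpowF f5jF f5cF f5good [2] f5stages = true := by decide +kernel

set_option maxHeartbeats 4000000 in
theorem f5_search3 : search 5 f5zpowF f5jF f5cF f5good [3] f5stages = true := by decide +kernel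

set_option maxHeartbeats 4000000 in
theorem f5_search4 : search 5 f5zpowF f5jF f5cF f5good [4] f5stages = true := by decide +kernel

theorem f5_search : search 5 f5zpowF f5jF f5cF f5good [1, 2, 3, 4] f5stages = true := by
  have h1 := f5_search1
  have h2 := f5_search2
  have h3 := f5_search3
  have h4 := f5_search4
  simp only [search, List.all_cons, List.all_nil, Bool.and_true] at h1 h2 h3 h4 ⊢
  rw [h1, h2, h3, h4]
  rfl

/-- the encodings of the 60 elements -/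
def LF : List (List ℕ) := f5good.map fun l => (List.range 24).map (candF 5 f5zpowF f5jF f5cF (l.headD 0) l.tail)

/-- the image of a fixed point of `f5` other than `∞` -/
theorem idx_fixed_image5 {g : Equiv.Perm GolayPt} (h23 : g (pt 23) = pt 23) {k : ℕ} (hk1 : 0 < k) (hk2 : k < 5)
    (hk : g * f5 = f5 ^ k * g) {q : GolayPt} (hq : f5 q = q) (hq23 : q ≠ pt 23) :
    idx (g q) ∈ [0, 1, 2] := by
  have h1 := pow_apply_of_fixed hk hq
  have h2 := f5_tab ⟨k, hk2⟩ ⟨idx (g q), idx_lt _⟩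
  simp only [] at h2
  rw [pt_idx, h1] at h2
  have h3 := f5_fixed ⟨k, hk2⟩ ⟨idx (g q), idx_lt _⟩ (by simpa using hk1.ne') h2.symm
  simp only [] at h3
  rcases h3 with h | h | h | h
  · rw [h]; simp
  · rw [h]; simp
  · rw [h]; simp
  · exfalso
    apply hq23
    apply g.injective
    rw [h23, ← pt_idx (g q), h]

theorem enc_mem_LF {g : Equiv.Perm GolayPt} (hg : g ∈ M24) (h23 : g (pt 23) = pt 23)
    {k : ℕ} (hk1 : 0 < k) (hk2 : k < 5) (hk : g * f5 = f5 ^ k * g) : enc g ∈ LF := by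
  have hdet := enc_eq_candF (n := 5) (by norm_num) f5_pow_five hk f5zpowF f5jF f5cF f5repL
    (fun m hm v hv => f5_tab ⟨m, hm⟩ ⟨v, hv⟩) (fun i hi => f5_dec ⟨i, hi⟩) (fun i hi => f5_rep ⟨i, hi⟩)
  have hkm : k ∈ [1, 2, 3, 4] := by
    interval_cases k <;> simp
  have e : ∀ i, i < 24 → (enc g).getD i 0 = idx (g (pt i)) := fun i hi => enc_getD g hi
  have h0 : idx (g (pt 0)) ∈ [0, 1, 2] := idx_fixed_image5 h23 hk1 hk2 hk f5_fix0 (by decide)
  have h1 : idx (g (pt 1)) ∈ [0, 1, 2] := idx_fixed_image5 h23 hk1 hk2 hk f5_fix1 (by decide)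
  have h2 : idx (g (pt 2)) ∈ [0, 1, 2] := idx_fixed_image5 h23 hk1 hk2 hk f5_fix2 (by decide)
  obtain ⟨hgood, henc⟩ := search_sound f5_search f5_tests hg hkm (f5repL.map fun r => (enc g).getD r 0)
    (by rfl) (by
      intro j hj
      have hj8 : j < 8 := hj
      interval_cases j
      · show (enc g).getD 23 0 ∈ [23]
        rw [e 23 (by norm_num), h23]; decide
      · show (enc g).getD 0 0 ∈ [0, 1, 2]
        rw [e 0 (by norm_num)]; exact h0
      · show (enc g).getD 1 0 ∈ [0, 1, 2]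
        rw [e 1 (by norm_num)]; exact h1
      · show (enc g).getD 2 0 ∈ [0, 1, 2]
        rw [e 2 (by norm_num)]; exact h2
      · show (enc g).getD 3 0 ∈ List.range 24
        rw [e 3 (by norm_num), List.mem_range]; exact idx_lt _
      · show (enc g).getD 4 0 ∈ List.range 24
        rw [e 4 (by norm_num), List.mem_range]; exact idx_lt _
      · show (enc g).getD 6 0 ∈ List.range 24
        rw [e 6 (by norm_num), List.mem_range]; exact idx_lt _
      · show (enc g).getD 10 0 ∈ List.range 24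
        rw [e 10 (by norm_num), List.mem_range]; exact idx_lt _) hdet
  rw [henc, LF, List.mem_map]
  exact ⟨_, hgood, rfl⟩

/-- the elements of `M24` fixing `∞` and normalising `⟨f5⟩` -/
def SF : Set (Equiv.Perm GolayPt) :=
  {g | g ∈ M24 ∧ g (pt 23) = pt 23 ∧ g * f5 * g⁻¹ ∈ Subgroup.zpowers f5}

theorem enc_mem_LF_of_mem {g : Equiv.Perm GolayPt} (hg : g ∈ SF) : enc g ∈ LF := by
  obtain ⟨hg, h23, hn⟩ := hg
  obtain ⟨k, hk1, hk2, hk⟩ := exists_exponent (by norm_num : 1 < 5) orderOf_f5 hn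
  exact enc_mem_LF hg h23 hk1 hk2 hk

theorem ncard_SF_le : SF.ncard ≤ 60 := by
  have h1 : ∀ g ∈ SF, enc g ∈ (↑LF.toFinset : Set (List ℕ)) := by
    intro g hg
    rw [Finset.mem_coe, List.mem_toFinset]
    exact enc_mem_LF_of_mem hg
  have h2 := Set.ncard_le_ncard_of_injOn enc h1 (enc_injective.injOn) (Finset.finite_toSet _)
  rw [Set.ncard_coe_finset] at h2
  exact h2.trans ((List.toFinset_card_le LF).trans (by rw [LF, List.length_map]; decide))

theorem w3_mem_SF : w3 ∈ SF := by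
  refine ⟨w3_mem, w3_fix23, ?_⟩
  have h : w3 * f5 * w3⁻¹ = f5 := by
    rw [mul_inv_eq_iff_eq_mul]
    apply Equiv.ext
    intro p; revert p; decide
  rw [h]
  exact Subgroup.mem_zpowers f5

/-- the tenth power of a permutation given by a list -/
def pow10L (l : List ℕ) (i : ℕ) : ℕ :=
  let s := fun j => l.getD j 0
  s (s (s (s (s (s (s (s (s (s i)))))))))

/-- the elements of the normaliser of order dividing 10 fix the points `0`, `1`, `2` -/
theorem LF_pow10 : ∀ l ∈ LF, (∀ i : Fin 24, pow10L l i = i) → l.getD 0 0 = 0 ∧ l.getD 1 0 = 1 ∧ l.getD 2 0 = 2 := by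
  decide +kernel

theorem fix_of_mem_SF_of_pow {g : Equiv.Perm GolayPt} (hg : g ∈ SF) (h10 : g ^ 10 = 1) :
    g (pt 0) = pt 0 ∧ g (pt 1) = pt 1 ∧ g (pt 2) = pt 2 := by
  have hl := enc_mem_LF_of_mem hg
  have e : ∀ i, i < 24 → (enc g).getD i 0 = idx (g (pt i)) := fun i hi => enc_getD g hi
  have hstep : ∀ p : GolayPt, (enc g).getD (idx p) 0 = idx (g p) := by
    intro p
    rw [e _ (idx_lt p), pt_idx]
  have h := LF_pow10 _ hl (by
    intro i
    show pow10L (enc g) i = i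
    have hi : (i : ℕ) = idx (pt i) := (idx_pt i i.2).symm
    simp only [pow10L]
    rw [hi]
    simp only [hstep]
    have : g (g (g (g (g (g (g (g (g (g (pt i)))))))))) = (g ^ 10) (pt i) := rfl
    rw [this, h10]
    rfl)
  obtain ⟨h0, h1, h2⟩ := h
  rw [e 0 (by norm_num)] at h0
  rw [e 1 (by norm_num)] at h1
  rw [e 2 (by norm_num)] at h2
  exact ⟨eq_pt_of_idx h0, eq_pt_of_idx h1, eq_pt_of_idx h2⟩

end Cfsg.Agent.Lib.Helper8.M24Idx
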