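import Cfsg.Agent.Lib.Helper8.M24Idx.Basic

/-!
# More on the normaliser of the element `z` of order 7 in the stabiliser of a point

The normaliser of `⟨z⟩` in the stabiliser `G1` of `∞` is a subgroup `NZ` of order 42: it contains `z`, `t` and the
element `w` of order 3.  Its elements stabilise the duad `{7, 13}` and the octad `o0`, and its only involution is `t`.
-/

set_option autoImplicit false

namespace Cfsg.Agent.Lib.Helper8.M24Idx

open Cfsg Cfsg.Agent.Lib.Helper6.Golay Cfsg.Agent.Lib.Helper6.PermChain Cfsg.Agent.Lib.Helper8.M22Idx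
  Cfsg.Agent.Lib.Helper8.M23Idx
open scoped Pointwise

/-- the element of order 3 normalising `z` -/
def wl : List ℕ := [0, 5, 3, 15, 12, 9, 10, 7, 22, 1, 14, 11, 16, 13, 6, 2, 4, 19, 8, 20, 17, 21, 18, 23]

def wil : List ℕ := [0, 9, 15, 2, 16, 1, 14, 7, 18, 5, 6, 11, 4, 13, 10, 3, 12, 20, 22, 17, 19, 21, 8, 23]

def w : Equiv.Perm GolayPt where
  toFun := lfun wl
  invFun := lfun wil
  left_inv := by intro p; revert p; decide
  right_inv := by intro p; revert p; decide

theorem w_coe : ⇑w = lfun wl := rfl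

theorem w_mem : w ∈ M24 := mem_M24_of_basisTest (l := wl) (by decide) w_coe (by decide +kernel)

theorem w_fix23 : w (pt 23) = pt 23 := by decide

theorem w_pow_three : w ^ 3 = 1 := by
  apply Equiv.ext
  intro p; revert p; decide

theorem w_ne_one : w ≠ 1 := by
  intro h
  have := congrFun (congrArg (fun g : Equiv.Perm GolayPt => ⇑g) h) (pt 1)
  revert this; decide

theorem orderOf_w : orderOf w = 3 :=
  haveI : Fact (Nat.Prime 3) := ⟨by norm_num⟩
  orderOf_eq_prime w_pow_three w_ne_one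

theorem t_pow_two : t ^ 2 = 1 := by
  apply Equiv.ext
  intro p; revert p; decide

theorem t_ne_one : t ≠ 1 := by
  intro h
  have := congrFun (congrArg (fun g : Equiv.Perm GolayPt => ⇑g) h) (pt 0)
  revert this; decide

theorem orderOf_t : orderOf t = 2 :=
  haveI : Fact (Nat.Prime 2) := ⟨by norm_num⟩
  orderOf_eq_prime t_pow_two t_ne_one

theorem w_conj : w * z * w⁻¹ = z ^ 2 := by
  rw [mul_inv_eq_iff_eq_mul]
  apply Equiv.ext
  intro p; revert p; decide

theorem w_conj_inv : w⁻¹ * z * w = z ^ 4 := by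
  rw [mul_assoc, inv_mul_eq_iff_eq_mul]
  apply Equiv.ext
  intro p; revert p; decide

theorem t_conj : t * z * t⁻¹ = z := by
  rw [mul_inv_eq_iff_eq_mul]
  apply Equiv.ext
  intro p; revert p; decide

theorem t_conj_inv : t⁻¹ * z * t = z := by
  rw [mul_assoc, inv_mul_eq_iff_eq_mul]
  apply Equiv.ext
  intro p; revert p; decide

/-- the normaliser of `⟨z⟩` in the stabiliser of `∞` -/
def NZ : Subgroup (Equiv.Perm GolayPt) :=
  G1 ⊓ Subgroup.normalizer ((Subgroup.zpowers z : Subgroup (Equiv.Perm GolayPt)) : Set (Equiv.Perm GolayPt))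

theorem NZ_subset_SZ : (NZ : Set (Equiv.Perm GolayPt)) ⊆ SZ := by
  intro g hg
  obtain ⟨h1, h2⟩ := Subgroup.mem_inf.1 hg
  obtain ⟨h3, h4⟩ := mem_G1.1 h1
  refine ⟨h3, h4, ?_⟩
  exact (Subgroup.mem_normalizer_iff.1 h2 z).1 (Subgroup.mem_zpowers z)

theorem z_mem_NZ : z ∈ NZ := by
  refine Subgroup.mem_inf.2 ⟨z_mem_G1, ?_⟩
  apply mem_normalizer_zpowers
  · rw [mul_inv_cancel_right]; exact Subgroup.mem_zpowers z
  · rw [inv_mul_cancel, one_mul]; exact Subgroup.mem_zpowers z

theorem t_mem_NZ : t ∈ NZ := by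
  refine Subgroup.mem_inf.2 ⟨mem_G1.2 ⟨t_mem, t_fix23⟩, ?_⟩
  apply mem_normalizer_zpowers
  · rw [t_conj]; exact Subgroup.mem_zpowers z
  · rw [t_conj_inv]; exact Subgroup.mem_zpowers z

theorem w_mem_NZ : w ∈ NZ := by
  refine Subgroup.mem_inf.2 ⟨mem_G1.2 ⟨w_mem, w_fix23⟩, ?_⟩
  apply mem_normalizer_zpowers
  · rw [w_conj]; exact Subgroup.pow_mem _ (Subgroup.mem_zpowers z) 2
  · rw [w_conj_inv]; exact Subgroup.pow_mem _ (Subgroup.mem_zpowers z) 4

/-- the normaliser has order 42 -/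
theorem card_NZ : Nat.card NZ = 42 := by
  have hle : Nat.card NZ ≤ 42 := by
    have hc : Nat.card NZ = (NZ : Set (Equiv.Perm GolayPt)).ncard := Nat.card_coe_set_eq _
    rw [hc]
    exact (Set.ncard_le_ncard NZ_subset_SZ (Set.toFinite _)).trans ncard_SZ_le
  have h7 : 7 ∣ Nat.card NZ := by
    have := orderOf_dvd_natCard (⟨z, z_mem_NZ⟩ : NZ)
    rwa [Subgroup.orderOf_mk, orderOf_z] at this
  have h2 : 2 ∣ Nat.card NZ := by
    have := orderOf_dvd_natCard (⟨t, t_mem_NZ⟩ : NZ)
    rwa [Subgroup.orderOf_mk, orderOf_t] at this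
  have h3 : 3 ∣ Nat.card NZ := by
    have := orderOf_dvd_natCard (⟨w, w_mem_NZ⟩ : NZ)
    rwa [Subgroup.orderOf_mk, orderOf_w] at this
  have hpos : 0 < Nat.card NZ := Nat.card_pos
  omega

theorem SZ_eq_NZ : SZ = (NZ : Set (Equiv.Perm GolayPt)) := by
  symm
  apply Set.eq_of_subset_of_ncard_le NZ_subset_SZ _ (Set.toFinite _)
  have hc : Nat.card NZ = (NZ : Set (Equiv.Perm GolayPt)).ncard := Nat.card_coe_set_eq _
  rw [← hc, card_NZ]
  exact ncard_SZ_le

/-- the encodings of the elements of `SZ` -/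
theorem enc_mem_LZ_of_mem {g : Equiv.Perm GolayPt} (hg : g ∈ SZ) : enc g ∈ LZ := by
  obtain ⟨h1, h23, hn⟩ := hg
  obtain ⟨k, hk1, hk2, hk⟩ := exists_exponent (by norm_num : 1 < 7) orderOf_z hn
  exact enc_mem_LZ h1 h23 hk1 hk2 hk

theorem LZ_masks : LZ.all (fun l => lmask l 8320 == 8320 && lmask l 14551296 == 14551296) = true := by
  decide +kernel

/-- the elements of `SZ` stabilise the duad and the octad -/
theorem smul_of_mem_SZ {g : Equiv.Perm GolayPt} (hg : g ∈ SZ) : g • s0 = s0 ∧ g • o0 = o0 := by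
  have h1 := enc_mem_LZ_of_mem hg
  have h2 := List.all_eq_true.1 LZ_masks _ h1
  rw [Bool.and_eq_true, beq_iff_eq, beq_iff_eq] at h2
  constructor
  · rw [s0, smul_fs (wf_enc g) (lfun_enc g), h2.1]
  · rw [o0, smul_fs (wf_enc g) (lfun_enc g), h2.2]

theorem LZ_involutions : LZ.all (fun l => !((List.range 24).all fun i => l.getD (l.getD i 0) 0 == i) ||
    l == List.range 24 || l == tl) = true := by
  decide +kernel

theorem enc_t : enc t = tl := by decide

theorem enc_one : enc 1 = List.range 24 := by decide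

/-- the only involution in `SZ` is `t` -/
theorem eq_t_of_mem_SZ {g : Equiv.Perm GolayPt} (hg : g ∈ SZ) (h2 : g * g = 1) (h1 : g ≠ 1) : g = t := by
  have hm := enc_mem_LZ_of_mem hg
  have h3 := List.all_eq_true.1 LZ_involutions _ hm
  have hinv : ((List.range 24).all fun i => (enc g).getD ((enc g).getD i 0) 0 == i) = true := by
    rw [List.all_eq_true]
    intro i hi
    rw [List.mem_range] at hi
    rw [beq_iff_eq, enc_getD g hi, enc_getD g (idx_lt _), pt_idx, ← Equiv.Perm.mul_apply, h2,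
      Equiv.Perm.one_apply, idx_pt i hi]
  rw [hinv, Bool.not_true, Bool.false_or, Bool.or_eq_true, beq_iff_eq, beq_iff_eq] at h3
  rcases h3 with h3 | h3
  · exfalso
    apply h1
    apply enc_injective
    rw [h3, enc_one]
  · apply enc_injective
    rw [h3, enc_t]

end Cfsg.Agent.Lib.Helper8.M24Idx
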