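import Cfsg.Agent.Lib.Helper8.M24Idx.PartB2

/-!
# Subgroups of index 759 in `M24`: explicit elements

The stabilisers `Ds` and `Do` (of order 40320) have no subgroup of index 3 containing ... : explicit elements of
orders 5 and 7 whose products give two independent commuting elements of order 3.
-/

set_option autoImplicit false

namespace Cfsg.Agent.Lib.Helper8.M24Idx

open Cfsg Cfsg.Agent.Lib.Helper6.Golay Cfsg.Agent.Lib.Helper6.PermChain Cfsg.Agent.Lib.Helper8.M22Idx
  Cfsg.Agent.Lib.Helper8.M23Idx Cfsg.Agent.Lib.Helper8.M24Search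
open scoped Pointwise

def as1l : List ℕ := [21, 3, 20, 16, 12, 18, 0, 7, 14, 15, 19, 9, 1, 13, 4, 2, 8, 22, 6, 5, 17, 10, 11, 23]

def as1il : List ℕ := [6, 12, 15, 1, 14, 19, 18, 7, 16, 11, 21, 22, 4, 13, 8, 9, 3, 20, 5, 10, 2, 0, 17, 23]

def as1 : Equiv.Perm GolayPt where
  toFun := lfun as1l
  invFun := lfun as1il
  left_inv := by intro p; revert p; decide
  right_inv := by intro p; revert p; decide

theorem as1_coe : ⇑as1 = lfun as1l := rfl

theorem as1_mem : as1 ∈ M24 := mem_M24_of_basisTest (l := as1l) (by decide) as1_coe (by decide +kernel)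

theorem as1_mem_Ds : as1 ∈ Ds := by
  refine mem_Ds.2 ⟨as1_mem, by decide, ?_⟩
  rw [s0, smul_fs (by decide) as1_coe]
  decide

theorem as1_pow : as1 ^ 7 = 1 := by
  apply Equiv.ext
  intro p; revert p; decide

theorem as1_ne_one : as1 ≠ 1 := by
  intro h
  have := congrFun (congrArg (fun g : Equiv.Perm GolayPt => ⇑g) h) (pt 0)
  revert this; decide

theorem orderOf_as1 : orderOf as1 = 7 :=
  haveI : Fact (Nat.Prime 7) := ⟨by norm_num⟩
  orderOf_eq_prime as1_pow as1_ne_one

def as2l : List ℕ := [8, 12, 0, 18, 9, 1, 19, 7, 10, 5, 14, 22, 4, 13, 2, 21, 16, 11, 20, 3, 6, 17, 15, 23]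

def as2il : List ℕ := [2, 5, 14, 19, 12, 9, 20, 7, 0, 4, 8, 17, 1, 13, 10, 22, 16, 21, 3, 6, 18, 15, 11, 23]

def as2 : Equiv.Perm GolayPt where
  toFun := lfun as2l
  invFun := lfun as2il
  left_inv := by intro p; revert p; decide
  right_inv := by intro p; revert p; decide

theorem as2_coe : ⇑as2 = lfun as2l := rfl

theorem as2_mem : as2 ∈ M24 := mem_M24_of_basisTest (l := as2l) (by decide) as2_coe (by decide +kernel)

theorem as2_mem_Ds : as2 ∈ Ds := by
  refine mem_Ds.2 ⟨as2_mem, by decide, ?_⟩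
  rw [s0, smul_fs (by decide) as2_coe]
  decide

theorem as2_pow : as2 ^ 5 = 1 := by
  apply Equiv.ext
  intro p; revert p; decide

theorem as2_ne_one : as2 ≠ 1 := by
  intro h
  have := congrFun (congrArg (fun g : Equiv.Perm GolayPt => ⇑g) h) (pt 0)
  revert this; decide

theorem orderOf_as2 : orderOf as2 = 5 :=
  haveI : Fact (Nat.Prime 5) := ⟨by norm_num⟩
  orderOf_eq_prime as2_pow as2_ne_one

def as3l : List ℕ := [11, 14, 22, 4, 18, 19, 8, 7, 0, 9, 17, 20, 21, 13, 10, 5, 1, 16, 2, 12, 6, 15, 3, 23]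

def as3il : List ℕ := [8, 16, 18, 22, 3, 15, 20, 7, 6, 9, 14, 0, 19, 13, 1, 21, 17, 10, 4, 5, 11, 12, 2, 23]

def as3 : Equiv.Perm GolayPt where
  toFun := lfun as3l
  invFun := lfun as3il
  left_inv := by intro p; revert p; decide
  right_inv := by intro p; revert p; decide

theorem as3_coe : ⇑as3 = lfun as3l := rfl

theorem as3_mem : as3 ∈ M24 := mem_M24_of_basisTest (l := as3l) (by decide) as3_coe (by decide +kernel)

theorem as3_mem_Ds : as3 ∈ Ds := by
  refine mem_Ds.2 ⟨as3_mem, by decide, ?_⟩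
  rw [s0, smul_fs (by decide) as3_coe]
  decide

theorem as3_pow : as3 ^ 5 = 1 := by
  apply Equiv.ext
  intro p; revert p; decide

theorem as3_ne_one : as3 ≠ 1 := by
  intro h
  have := congrFun (congrArg (fun g : Equiv.Perm GolayPt => ⇑g) h) (pt 0)
  revert this; decide

theorem orderOf_as3 : orderOf as3 = 5 :=
  haveI : Fact (Nat.Prime 5) := ⟨by norm_num⟩
  orderOf_eq_prime as3_pow as3_ne_one

def as4l : List ℕ := [9, 19, 2, 20, 3, 22, 15, 7, 11, 5, 14, 16, 0, 13, 4, 21, 1, 6, 17, 8, 10, 18, 12, 23]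

def as4il : List ℕ := [12, 16, 2, 4, 14, 9, 17, 7, 19, 0, 20, 8, 22, 13, 10, 6, 11, 18, 21, 1, 3, 15, 5, 23]

def as4 : Equiv.Perm GolayPt where
  toFun := lfun as4l
  invFun := lfun as4il
  left_inv := by intro p; revert p; decide
  right_inv := by intro p; revert p; decide

theorem as4_coe : ⇑as4 = lfun as4l := rfl

theorem as4_mem : as4 ∈ M24 := mem_M24_of_basisTest (l := as4l) (by decide) as4_coe (by decide +kernel)

theorem as4_mem_Ds : as4 ∈ Ds := by
  refine mem_Ds.2 ⟨as4_mem, by decide, ?_⟩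
  rw [s0, smul_fs (by decide) as4_coe]
  decide

theorem as4_pow : as4 ^ 5 = 1 := by
  apply Equiv.ext
  intro p; revert p; decide

theorem as4_ne_one : as4 ≠ 1 := by
  intro h
  have := congrFun (congrArg (fun g : Equiv.Perm GolayPt => ⇑g) h) (pt 0)
  revert this; decide

theorem orderOf_as4 : orderOf as4 = 5 :=
  haveI : Fact (Nat.Prime 5) := ⟨by norm_num⟩
  orderOf_eq_prime as4_pow as4_ne_one

theorem as_u_pow : (as1 * as2) ^ 3 = 1 := by
  apply Equiv.ext
  intro p; revert p; decide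

theorem as_v_pow : (as3 * as4) ^ 3 = 1 := by
  apply Equiv.ext
  intro p; revert p; decide

theorem as_u_ne_one : as1 * as2 ≠ 1 := by
  intro h
  have := congrFun (congrArg (fun g : Equiv.Perm GolayPt => ⇑g) h) (pt 0)
  revert this; decide

theorem as_comm : (as1 * as2) * (as3 * as4) = (as3 * as4) * (as1 * as2) := by
  apply Equiv.ext
  intro p; revert p; decide

theorem as_v_ne0 : as3 * as4 ≠ (as1 * as2) ^ 0 := by
  intro h
  have := congrFun (congrArg (fun g : Equiv.Perm GolayPt => ⇑g) h) (pt 0)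
  revert this; decide

theorem as_v_ne1 : as3 * as4 ≠ (as1 * as2) ^ 1 := by
  intro h
  have := congrFun (congrArg (fun g : Equiv.Perm GolayPt => ⇑g) h) (pt 0)
  revert this; decide

theorem as_v_ne2 : as3 * as4 ≠ (as1 * as2) ^ 2 := by
  intro h
  have := congrFun (congrArg (fun g : Equiv.Perm GolayPt => ⇑g) h) (pt 0)
  revert this; decide

def ao1l : List ℕ := [2, 3, 14, 21, 15, 12, 4, 10, 8, 1, 0, 19, 6, 9, 7, 5, 16, 18, 11, 20, 17, 13, 22, 23]

def ao1il : List ℕ := [10, 9, 0, 1, 6, 15, 12, 14, 8, 13, 7, 18, 5, 21, 2, 4, 16, 20, 17, 11, 19, 3, 22, 23]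

def ao1 : Equiv.Perm GolayPt where
  toFun := lfun ao1l
  invFun := lfun ao1il
  left_inv := by intro p; revert p; decide
  right_inv := by intro p; revert p; decide

theorem ao1_coe : ⇑ao1 = lfun ao1l := rfl

theorem ao1_mem : ao1 ∈ M24 := mem_M24_of_basisTest (l := ao1l) (by decide) ao1_coe (by decide +kernel)

theorem ao1_mem_Do : ao1 ∈ Do := by
  refine mem_Do.2 ⟨ao1_mem, by decide, ?_⟩
  rw [o0, smul_fs (by decide) ao1_coe]
  decide

theorem ao1_pow : ao1 ^ 5 = 1 := by
  apply Equiv.ext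
  intro p; revert p; decide

theorem ao1_ne_one : ao1 ≠ 1 := by
  intro h
  have := congrFun (congrArg (fun g : Equiv.Perm GolayPt => ⇑g) h) (pt 0)
  revert this; decide

theorem orderOf_ao1 : orderOf ao1 = 5 :=
  haveI : Fact (Nat.Prime 5) := ⟨by norm_num⟩
  orderOf_eq_prime ao1_pow ao1_ne_one

def ao2l : List ℕ := [4, 6, 0, 10, 13, 5, 3, 14, 19, 9, 12, 18, 16, 21, 2, 1, 15, 11, 8, 22, 17, 7, 20, 23]

def ao2il : List ℕ := [2, 15, 14, 6, 0, 5, 1, 21, 18, 9, 3, 17, 10, 4, 7, 16, 12, 20, 11, 8, 22, 13, 19, 23]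

def ao2 : Equiv.Perm GolayPt where
  toFun := lfun ao2l
  invFun := lfun ao2il
  left_inv := by intro p; revert p; decide
  right_inv := by intro p; revert p; decide

theorem ao2_coe : ⇑ao2 = lfun ao2l := rfl

theorem ao2_mem : ao2 ∈ M24 := mem_M24_of_basisTest (l := ao2l) (by decide) ao2_coe (by decide +kernel)

theorem ao2_mem_Do : ao2 ∈ Do := by
  refine mem_Do.2 ⟨ao2_mem, by decide, ?_⟩
  rw [o0, smul_fs (by decide) ao2_coe]
  decide

theorem ao2_pow : ao2 ^ 7 = 1 := by
  apply Equiv.ext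
  intro p; revert p; decide

theorem ao2_ne_one : ao2 ≠ 1 := by
  intro h
  have := congrFun (congrArg (fun g : Equiv.Perm GolayPt => ⇑g) h) (pt 0)
  revert this; decide

theorem orderOf_ao2 : orderOf ao2 = 7 :=
  haveI : Fact (Nat.Prime 7) := ⟨by norm_num⟩
  orderOf_eq_prime ao2_pow ao2_ne_one

def ao3l : List ℕ := [0, 4, 6, 14, 13, 3, 1, 12, 18, 2, 10, 8, 16, 21, 7, 5, 15, 22, 19, 17, 11, 9, 20, 23]

def ao3il : List ℕ := [0, 6, 9, 5, 1, 15, 2, 14, 11, 21, 10, 20, 7, 4, 3, 16, 12, 19, 8, 18, 22, 13, 17, 23]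

def ao3 : Equiv.Perm GolayPt where
  toFun := lfun ao3l
  invFun := lfun ao3il
  left_inv := by intro p; revert p; decide
  right_inv := by intro p; revert p; decide

theorem ao3_coe : ⇑ao3 = lfun ao3l := rfl

theorem ao3_mem : ao3 ∈ M24 := mem_M24_of_basisTest (l := ao3l) (by decide) ao3_coe (by decide +kernel)

theorem ao3_mem_Do : ao3 ∈ Do := by
  refine mem_Do.2 ⟨ao3_mem, by decide, ?_⟩
  rw [o0, smul_fs (by decide) ao3_coe]
  decide

theorem ao3_pow : ao3 ^ 7 = 1 := by
  apply Equiv.ext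
  intro p; revert p; decide

theorem ao3_ne_one : ao3 ≠ 1 := by
  intro h
  have := congrFun (congrArg (fun g : Equiv.Perm GolayPt => ⇑g) h) (pt 1)
  revert this; decide

theorem orderOf_ao3 : orderOf ao3 = 7 :=
  haveI : Fact (Nat.Prime 7) := ⟨by norm_num⟩
  orderOf_eq_prime ao3_pow ao3_ne_one

def ao4l : List ℕ := [10, 1, 14, 13, 21, 16, 15, 3, 11, 6, 12, 20, 5, 4, 9, 2, 0, 17, 8, 19, 22, 7, 18, 23]

def ao4il : List ℕ := [16, 1, 15, 7, 13, 12, 9, 21, 18, 14, 0, 8, 10, 3, 2, 6, 5, 17, 22, 19, 11, 4, 20, 23]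

def ao4 : Equiv.Perm GolayPt where
  toFun := lfun ao4l
  invFun := lfun ao4il
  left_inv := by intro p; revert p; decide
  right_inv := by intro p; revert p; decide

theorem ao4_coe : ⇑ao4 = lfun ao4l := rfl

theorem ao4_mem : ao4 ∈ M24 := mem_M24_of_basisTest (l := ao4l) (by decide) ao4_coe (by decide +kernel)

theorem ao4_mem_Do : ao4 ∈ Do := by
  refine mem_Do.2 ⟨ao4_mem, by decide, ?_⟩
  rw [o0, smul_fs (by decide) ao4_coe]
  decide

theorem ao4_pow : ao4 ^ 5 = 1 := by
  apply Equiv.ext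
  intro p; revert p; decide

theorem ao4_ne_one : ao4 ≠ 1 := by
  intro h
  have := congrFun (congrArg (fun g : Equiv.Perm GolayPt => ⇑g) h) (pt 0)
  revert this; decide

theorem orderOf_ao4 : orderOf ao4 = 5 :=
  haveI : Fact (Nat.Prime 5) := ⟨by norm_num⟩
  orderOf_eq_prime ao4_pow ao4_ne_one

theorem ao_u_pow : (ao1 * ao2) ^ 3 = 1 := by
  apply Equiv.ext
  intro p; revert p; decide

theorem ao_v_pow : (ao3 * ao4) ^ 3 = 1 := by
  apply Equiv.ext
  intro p; revert p; decide

theorem ao_u_ne_one : ao1 * ao2 ≠ 1 := by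
  intro h
  have := congrFun (congrArg (fun g : Equiv.Perm GolayPt => ⇑g) h) (pt 0)
  revert this; decide

theorem ao_comm : (ao1 * ao2) * (ao3 * ao4) = (ao3 * ao4) * (ao1 * ao2) := by
  apply Equiv.ext
  intro p; revert p; decide

theorem ao_v_ne0 : ao3 * ao4 ≠ (ao1 * ao2) ^ 0 := by
  intro h
  have := congrFun (congrArg (fun g : Equiv.Perm GolayPt => ⇑g) h) (pt 0)
  revert this; decide

theorem ao_v_ne1 : ao3 * ao4 ≠ (ao1 * ao2) ^ 1 := by
  intro h
  have := congrFun (congrArg (fun g : Equiv.Perm GolayPt => ⇑g) h) (pt 0)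
  revert this; decide

theorem ao_v_ne2 : ao3 * ao4 ≠ (ao1 * ao2) ^ 2 := by
  intro h
  have := congrFun (congrArg (fun g : Equiv.Perm GolayPt => ⇑g) h) (pt 0)
  revert this; decide

/-- a group containing two independent commuting elements of order 3 has order divisible by 9 -/
theorem nine_dvd_card {Γ : Type*} [Group Γ] (X : Subgroup Γ) [Finite X] {u v : Γ} (hu : u ∈ X) (hv : v ∈ X)
    (hu3 : u ^ 3 = 1) (hv3 : v ^ 3 = 1) (hu1 : u ≠ 1) (hc : u * v = v * u)
    (hne : ∀ k : ℕ, k < 3 → v ≠ u ^ k) : 9 ∣ Nat.card X := by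
  set H : Subgroup Γ := Subgroup.closure {u, v} with hH
  have hHX : H ≤ X := by
    rw [hH, Subgroup.closure_le]
    rintro g (rfl | rfl)
    · exact hu
    · exact hv
  have : Finite H := Finite.of_injective (Subgroup.inclusion hHX) (Subgroup.inclusion_injective hHX)
  have hcomm : ∀ x ∈ ({u, v} : Set Γ), ∀ y ∈ ({u, v} : Set Γ), x * y = y * x := by
    rintro x (rfl | rfl) y (rfl | rfl)
    · rfl
    · exact hc
    · exact hc.symm
    · rfl
  have hmc : IsMulCommutative H := Subgroup.isMulCommutative_closure hcomm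
  have hpow : ∀ a ∈ H, a ^ 3 = 1 := by
    intro a ha
    induction ha using Subgroup.closure_induction with
    | mem x hx =>
      rcases hx with rfl | rfl
      · exact hu3
      · exact hv3
    | one => exact one_pow 3
    | mul x y hx hy ihx ihy =>
      have hxy : (⟨x, hx⟩ : H) * ⟨y, hy⟩ = ⟨y, hy⟩ * ⟨x, hx⟩ := hmc.is_comm.comm _ _
      have hxy' : x * y = y * x := congrArg Subtype.val hxy
      rw [(show Commute x y from hxy').mul_pow, ihx, ihy, one_mul]
    | inv x hx ihx => rw [inv_pow, ihx, inv_one]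
  have hp : IsPGroup 3 H := by
    intro g
    refine ⟨1, ?_⟩
    apply Subtype.ext
    rw [pow_one, Subgroup.coe_pow, hpow _ g.2]
    rfl
  obtain ⟨n, hn⟩ := hp.exists_card_eq
  have huH : u ∈ H := Subgroup.subset_closure (by simp)
  have hvH : v ∈ H := Subgroup.subset_closure (by simp)
  have hlt : Nat.card (Subgroup.zpowers u) < Nat.card H := by
    have hle : Subgroup.zpowers u ≤ H := by rw [Subgroup.zpowers_le]; exact huH
    have e1 : Nat.card (Subgroup.zpowers u) = ((Subgroup.zpowers u : Subgroup Γ) : Set Γ).ncard :=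
      Nat.card_coe_set_eq _
    have e2 : Nat.card H = (H : Set Γ).ncard := Nat.card_coe_set_eq _
    rw [e1, e2]
    apply Set.ncard_lt_ncard _ (Set.toFinite _)
    refine ⟨hle, fun hsub => ?_⟩
    have hvz : v ∈ Subgroup.zpowers u := hsub hvH
    haveI : Fact (Nat.Prime 3) := ⟨by norm_num⟩
    have ho : orderOf u = 3 := orderOf_eq_prime hu3 hu1
    obtain ⟨k, hk⟩ := Subgroup.mem_zpowers_iff.1 hvz
    have hk' : v = u ^ (k % 3).toNat := by
      have h3 : ((orderOf u : ℕ) : ℤ) = 3 := by rw [ho]; rfl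
      rw [← hk, ← zpow_natCast, Int.toNat_of_nonneg (Int.emod_nonneg _ (by norm_num)), ← h3, zpow_mod_orderOf]
    have hlt3 : (k % 3).toNat < 3 := by
      have := Int.emod_lt_of_pos k (by norm_num : (0 : ℤ) < 3)
      omega
    exact hne _ hlt3 hk'
  have hcz : Nat.card (Subgroup.zpowers u) = 3 := by
    haveI : Fact (Nat.Prime 3) := ⟨by norm_num⟩
    rw [Nat.card_zpowers, orderOf_eq_prime hu3 hu1]
  rw [hcz, hn] at hlt
  have hn2 : 2 ≤ n := by
    by_contra hlt2
    have : n = 0 ∨ n = 1 := by omega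
    rcases this with rfl | rfl <;> simp at hlt
  have h9 : 9 ∣ Nat.card H := by
    rw [hn]
    exact pow_dvd_pow 3 hn2
  exact h9.trans (Subgroup.card_dvd_of_le hHX)

end Cfsg.Agent.Lib.Helper8.M24Idx
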