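import Cfsg.Agent.Lib.Helper8.M24Idx.PartA

/-!
# Subgroups of index 759 in `M24`

A subgroup of order 322560 of `M24` is the stabiliser of an octad.
-/

set_option autoImplicit false

namespace Cfsg.Agent.Lib.Helper8.M24Idx

open Cfsg Cfsg.Agent.Lib.Helper6.Golay Cfsg.Agent.Lib.Helper6.PermChain Cfsg.Agent.Lib.Helper8.M22Idx
  Cfsg.Agent.Lib.Helper8.M23Idx Cfsg.Agent.Lib.Helper8.M24Search
open scoped Pointwise

/-- elements of order 5 and 7 lie in every subgroup of index 3 -/
theorem mem_of_order57 {D P : Subgroup (Equiv.Perm GolayPt)} (hPD : P ≤ D)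
    (hidx : Nat.card D = 3 * Nat.card P) {g : Equiv.Perm GolayPt} (hg : g ∈ D)
    (ho : orderOf g = 5 ∨ orderOf g = 7) : g ∈ P := by
  rcases ho with ho | ho
  · exact mem_of_prime_order_gt_index D P hPD (by norm_num : Nat.Prime 5) hidx (by norm_num) hg ho
  · exact mem_of_prime_order_gt_index D P hPD (by norm_num : Nat.Prime 7) hidx (by norm_num) hg ho

/-- the stabiliser of `∞` has no subgroup of order 13440 containing `z` -/
theorem no_card_G1_13440_of_z (P : Subgroup (Equiv.Perm GolayPt)) (hP : P ≤ G1) (hz : z ∈ P)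
    (hcard : Nat.card P = 13440) : False := by
  obtain ⟨c, n, hcn, hn, hc6, hct, -⟩ := sylow7_G1 P hP hz (by rw [hcard]; norm_num)
  have hcle : c ≤ 6 := Nat.le_of_dvd (by norm_num) hc6
  have hcpos : 0 < c := Nat.pos_of_dvd_of_pos hc6 (by norm_num)
  have ht : t ∈ P := by
    apply hct
    rw [hcard] at hcn
    interval_cases c <;> omega
  have h9 : ¬ 9 ∣ Nat.card P := by rw [hcard]; norm_num
  rcases core' P hP (by rw [hcard]; norm_num) hz ht with h | h
  · have hidx : Nat.card Ds = 3 * Nat.card P := by rw [card_Ds, hcard]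
    have m1 := mem_of_order57 h hidx as1_mem_Ds (by rw [orderOf_as1]; norm_num)
    have m2 := mem_of_order57 h hidx as2_mem_Ds (by rw [orderOf_as2]; norm_num)
    have m3 := mem_of_order57 h hidx as3_mem_Ds (by rw [orderOf_as3]; norm_num)
    have m4 := mem_of_order57 h hidx as4_mem_Ds (by rw [orderOf_as4]; norm_num)
    refine h9 (nine_dvd_card P (P.mul_mem m1 m2) (P.mul_mem m3 m4) as_u_pow as_v_pow as_u_ne_one as_comm ?_)
    intro k hk
    interval_cases k
    · exact as_v_ne0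
    · exact as_v_ne1
    · exact as_v_ne2
  · have hidx : Nat.card Do = 3 * Nat.card P := by rw [card_Do, hcard]
    have m1 := mem_of_order57 h hidx ao1_mem_Do (by rw [orderOf_ao1]; norm_num)
    have m2 := mem_of_order57 h hidx ao2_mem_Do (by rw [orderOf_ao2]; norm_num)
    have m3 := mem_of_order57 h hidx ao3_mem_Do (by rw [orderOf_ao3]; norm_num)
    have m4 := mem_of_order57 h hidx ao4_mem_Do (by rw [orderOf_ao4]; norm_num)
    refine h9 (nine_dvd_card P (P.mul_mem m1 m2) (P.mul_mem m3 m4) ao_u_pow ao_v_pow ao_u_ne_one ao_comm ?_)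
    intro k hk
    interval_cases k
    · exact ao_v_ne0
    · exact ao_v_ne1
    · exact ao_v_ne2

/-- point stabilisers of conjugate subgroups -/
theorem ptStab_map_conj (σ : Equiv.Perm GolayPt) (K : Subgroup (Equiv.Perm GolayPt)) (p : GolayPt) :
    ptStab (K.map (MulAut.conj σ).toMonoidHom) (σ p) = (ptStab K p).map (MulAut.conj σ).toMonoidHom := by
  ext g
  constructor
  · intro hg
    obtain ⟨⟨g0, hg0, rfl⟩, hfix⟩ := mem_ptStab.1 hg
    refine ⟨g0, mem_ptStab.2 ⟨hg0, ?_⟩, rfl⟩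
    have h1 : σ (g0 (σ⁻¹ (σ p))) = σ p := hfix
    have e : σ⁻¹ (σ p) = p := σ.symm_apply_apply p
    rw [e] at h1
    exact σ.injective h1
  · rintro ⟨g0, hg0, rfl⟩
    obtain ⟨h1, h2⟩ := mem_ptStab.1 hg0
    refine mem_ptStab.2 ⟨⟨g0, h1, rfl⟩, ?_⟩
    show σ (g0 (σ⁻¹ (σ p))) = σ p
    have e : σ⁻¹ (σ p) = p := σ.symm_apply_apply p
    rw [e, h2]

/-- transfer of a description of a conjugate -/
theorem mem_iff_of_map_conj {ρ : Equiv.Perm GolayPt} (hρ : ρ ∈ M24) {K : Subgroup (Equiv.Perm GolayPt)}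
    {X : Type*} [MulAction (Equiv.Perm GolayPt) X] {a : X}
    (h : ∀ g, g ∈ K.map (MulAut.conj ρ).toMonoidHom ↔ g ∈ M24 ∧ g • a = a) :
    ∀ g, g ∈ K ↔ g ∈ M24 ∧ g • (ρ⁻¹ • a) = ρ⁻¹ • a := by
  intro g
  have h1 : g ∈ K ↔ ρ * g * ρ⁻¹ ∈ K.map (MulAut.conj ρ).toMonoidHom := by
    constructor
    · intro hg
      exact ⟨g, hg, rfl⟩
    · rintro ⟨g', hg', hgg⟩
      have : g' = g := (MulAut.conj ρ).injective hgg
      rwa [← this]
  rw [h1, h]
  refine and_congr ?_ ?_
  · rw [M24.mul_mem_cancel_right (M24.inv_mem hρ), M24.mul_mem_cancel_left hρ]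
  · rw [mul_smul, mul_smul, smul_eq_iff_eq_inv_smul]

/-- the possible orbit lengths -/
theorem orbit_card_a : ∀ m : Fin 25, (m : ℕ) ∣ 322560 → (322560 / (m : ℕ)) ∣ 10200960 →
    (m : ℕ) = 8 ∨ (m : ℕ) = 16 ∨ (m : ℕ) = 24 := by decide

theorem orbit_card_of_card {K : Subgroup (Equiv.Perm GolayPt)} (hK : K ≤ M24) (hcard : Nat.card K = 322560)
    (p : GolayPt) : Nat.card (MulAction.orbit K p) = 8 ∨ Nat.card (MulAction.orbit K p) = 16 ∨
      Nat.card (MulAction.orbit K p) = 24 := by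
  have hmul := card_orbit_mul_card_ptStab K p
  rw [hcard] at hmul
  have hdvd := card_ptStab_dvd hK p
  have hle := card_orbit_le K p
  have hpos := card_orbit_pos K p
  have h1 : Nat.card (MulAction.orbit K p) ∣ 322560 := Dvd.intro _ hmul
  have h2 : 322560 / Nat.card (MulAction.orbit K p) = Nat.card (ptStab K p) :=
    Nat.div_eq_of_eq_mul_right hpos hmul.symm
  have := orbit_card_a ⟨Nat.card (MulAction.orbit K p), by omega⟩ h1 (by rw [h2]; exact hdvd)
  exact this

/-- the orbit of `∞` of length 8 under a group containing `z` and `t` -/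
theorem maskZT_cases : ∀ c7 c8 c0 : Bool, pc 24 (cmaskZT true c7 c8 c0) = 8 →
    cmaskZT true c7 c8 c0 = 14551296 := by decide

/-- a subgroup of order 322560 with an orbit of length 8 -/
theorem main_octad_of_orbit (K : Subgroup (Equiv.Perm GolayPt)) (hK : K ≤ M24) (hcard : Nat.card K = 322560)
    (p : GolayPt) (hp : Nat.card (MulAction.orbit K p) = 8) :
    ∃ o ∈ octads, ∀ g, g ∈ K ↔ g ∈ M24 ∧ g • o = o := by
  have hmul := card_orbit_mul_card_ptStab K p
  rw [hcard, hp] at hmul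
  have hP0 : Nat.card (ptStab K p) = 40320 := by omega
  -- move the point to `∞`
  let e1 : Fin 1 ↪ GolayPt := ⟨fun _ => p, fun i j _ => Subsingleton.elim i j⟩
  let e2 : Fin 1 ↪ GolayPt := ⟨fun _ => pt 23, fun i j _ => Subsingleton.elim i j⟩
  obtain ⟨σ, hσ, hσe⟩ := exists_M24_map (by norm_num) e1 e2
  have hσp : σ p = pt 23 := hσe 0
  set K1 := K.map (MulAut.conj σ).toMonoidHom with hK1
  have hK1le : K1 ≤ M24 := map_conj_le_M24 hσ hK
  have hP1 : ptStab K1 (pt 23) = (ptStab K p).map (MulAut.conj σ).toMonoidHom := by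
    rw [← hσp]; exact ptStab_map_conj σ K p
  have hP1card : Nat.card (ptStab K1 (pt 23)) = 40320 := by
    rw [hP1]; exact (M23Idx.card_map_conj σ _).trans hP0
  have hP1le : ptStab K1 (pt 23) ≤ G1 := ptStab_le_fixL hK1le (pt 23)
  -- an element of order 7
  have : Fact (Nat.Prime 7) := ⟨by norm_num⟩
  obtain ⟨τ, hτ, hzP⟩ := exists_conj_mem (ptStab K1 (pt 23)) hP1le 7 (by rw [card_G1]; norm_num)
    (by rw [hP1card]; norm_num) z_mem_G1 orderOf_z
  obtain ⟨hτM, hτ23⟩ := mem_G1.1 hτ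
  set K2 := K1.map (MulAut.conj τ).toMonoidHom with hK2
  have hK2le : K2 ≤ M24 := map_conj_le_M24 hτM hK1le
  have hK2card : Nat.card K2 = 322560 :=
    (M23Idx.card_map_conj τ K1).trans ((M23Idx.card_map_conj σ K).trans hcard)
  have hP2 : ptStab K2 (pt 23) = (ptStab K1 (pt 23)).map (MulAut.conj τ).toMonoidHom := by
    have := ptStab_map_conj τ K1 (pt 23)
    rwa [hτ23] at this
  have hP2card : Nat.card (ptStab K2 (pt 23)) = 40320 := by
    rw [hP2]; exact (M23Idx.card_map_conj τ _).trans hP1card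
  have hP2le : ptStab K2 (pt 23) ≤ G1 := ptStab_le_fixL hK2le (pt 23)
  have hzP2 : z ∈ ptStab K2 (pt 23) := by rw [hP2]; exact hzP
  have htP2 : t ∈ ptStab K2 (pt 23) := t_mem_of_card _ hP2le hP2card hzP2
  have hz2 : z ∈ K2 := (mem_ptStab.1 hzP2).1
  have ht2 : t ∈ K2 := (mem_ptStab.1 htP2).1
  -- the orbit of `∞`
  obtain ⟨c23, c7, c8, c0, horb, h23⟩ := orbit_maskZT K2 hz2 ht2 (pt 23)
  have hc23 : c23 = true := h23.1 (MulAction.mem_orbit_self _)
  subst hc23
  have hm := card_orbit_of_mask horb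
  have hmul2 := card_orbit_mul_card_ptStab K2 (pt 23)
  rw [hK2card, hP2card, hm] at hmul2
  have hmask := maskZT_cases c7 c8 c0 (by omega)
  rw [hmask] at horb
  have hfix : ∀ g ∈ K2, g • o0 = o0 := fun g hg => smul_fs_eq_of_orbit horb hg
  have hle : K2 ≤ M24 ⊓ MulAction.stabilizer (Equiv.Perm GolayPt) o0 := by
    intro g hg
    exact Subgroup.mem_inf.2 ⟨hK2le hg, MulAction.mem_stabilizer_iff.2 (hfix g hg)⟩
  have heq : K2 = M24 ⊓ MulAction.stabilizer (Equiv.Perm GolayPt) o0 := by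
    apply Subgroup.eq_of_le_of_card_ge hle
    rw [hK2card, card_stab_o0]
  have h2 : ∀ g, g ∈ K2 ↔ g ∈ M24 ∧ g • o0 = o0 := by
    intro g
    rw [heq, Subgroup.mem_inf]
    exact Iff.rfl
  have h1 := mem_iff_of_map_conj hτM h2
  have h0 := mem_iff_of_map_conj hσ h1
  exact ⟨σ⁻¹ • τ⁻¹ • o0, smul_mem_octads (M24.inv_mem hσ) (smul_mem_octads (M24.inv_mem hτM) o0_mem), h0⟩

/-- **a subgroup of order 322560 of `M24` is the stabiliser of an octad** -/
theorem main_octad (K : Subgroup (Equiv.Perm GolayPt)) (hK : K ≤ M24) (hcard : Nat.card K = 322560) :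
    ∃ o ∈ octads, ∀ g, g ∈ K ↔ g ∈ M24 ∧ g • o = o := by
  by_cases h8 : ∃ p : GolayPt, Nat.card (MulAction.orbit K p) = 8
  · obtain ⟨p, hp⟩ := h8
    exact main_octad_of_orbit K hK hcard p hp
  exfalso
  have h24 : Nat.card (MulAction.orbit K (pt 23)) = 24 := by
    rcases orbit_card_of_card hK hcard (pt 23) with h | h | h
    · exact absurd ⟨_, h⟩ h8
    · exfalso
      have hne : ∃ q, q ∉ MulAction.orbit K (pt 23) := by
        by_contra hall
        have hall' : ∀ q, q ∈ MulAction.orbit K (pt 23) := fun q => by_contra (fun hq => hall ⟨q, hq⟩)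
        have huniv : MulAction.orbit K (pt 23) = Set.univ := Set.eq_univ_of_forall hall'
        rw [huniv, Nat.card_coe_set_eq, Set.ncard_univ, card_golayPt] at h
        omega
      obtain ⟨q, hq⟩ := hne
      have hdisj : Disjoint (MulAction.orbit K q) (MulAction.orbit K (pt 23)) := by
        rw [Set.disjoint_left]
        intro x hx1 hx2
        apply hq
        have e1 : MulAction.orbit K x = MulAction.orbit K q := MulAction.orbit_eq_iff.2 hx1
        have e2 : MulAction.orbit K x = MulAction.orbit K (pt 23) := MulAction.orbit_eq_iff.2 hx2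
        rw [← e2, e1]
        exact MulAction.mem_orbit_self q
      have hsum : (MulAction.orbit K q ∪ MulAction.orbit K (pt 23)).ncard =
          (MulAction.orbit K q).ncard + (MulAction.orbit K (pt 23)).ncard :=
        Set.ncard_union_eq hdisj (Set.toFinite _) (Set.toFinite _)
      have hle : (MulAction.orbit K q ∪ MulAction.orbit K (pt 23)).ncard ≤ 24 := by
        rw [← card_golayPt]; exact Set.ncard_le_card _
      rw [Nat.card_coe_set_eq] at h
      rcases orbit_card_of_card hK hcard q with h' | h' | h'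
      · exact h8 ⟨_, h'⟩
      · rw [Nat.card_coe_set_eq] at h'; omega
      · rw [Nat.card_coe_set_eq] at h'; omega
    · exact h
  have hmul := card_orbit_mul_card_ptStab K (pt 23)
  rw [hcard, h24] at hmul
  have hP0 : Nat.card (ptStab K (pt 23)) = 13440 := by omega
  have hPle : ptStab K (pt 23) ≤ G1 := ptStab_le_fixL hK (pt 23)
  have : Fact (Nat.Prime 7) := ⟨by norm_num⟩
  obtain ⟨τ, hτ, hzP⟩ := exists_conj_mem (ptStab K (pt 23)) hPle 7 (by rw [card_G1]; norm_num)
    (by rw [hP0]; norm_num) z_mem_G1 orderOf_z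
  refine no_card_G1_13440_of_z _ ?_ hzP ((M23Idx.card_map_conj τ _).trans hP0)
  rintro _ ⟨g, hg, rfl⟩
  show τ * g * τ⁻¹ ∈ G1
  exact G1.mul_mem (G1.mul_mem hτ (hPle hg)) (G1.inv_mem hτ)

end Cfsg.Agent.Lib.Helper8.M24Idx
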