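import Cfsg.Agent.Lib.Helper8.M24Idx.PartD2
import Cfsg.Agent.Lib.Helper8.M22Idx.Main

/-!
# Subgroups of index 276 in `M24`: preparations

* orbits of a group containing `z` are unions of the six orbits of `⟨z⟩`;
* the normaliser of `⟨x⟩` (`x` of order 11) in the stabiliser of `∞` has order 55, and `M23` has no subgroup of
  order 55440;
* a subgroup of the stabiliser of `∞` containing `z` and `t`, of order not divisible by 23, has order dividing 40320.
-/

set_option autoImplicit false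

namespace Cfsg.Agent.Lib.Helper8.M24Idx

open Cfsg Cfsg.Agent.Lib.Helper6.Golay Cfsg.Agent.Lib.Helper6.PermChain Cfsg.Agent.Lib.Helper8.M22Idx
  Cfsg.Agent.Lib.Helper8.M23Idx Cfsg.Agent.Lib.Helper8.M24Search
open scoped Pointwise

/-- points related by elements of the group lie in the same orbits -/
theorem rep_iff {K : Subgroup (Equiv.Perm GolayPt)} {q : GolayPt} (R : ℕ → ℕ) (W : ℕ → Equiv.Perm GolayPt)
    (hW : ∀ i, W i ∈ K) (hdec : ∀ i : Fin 24, pt i = (W i) (pt (R i))) :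
    ∀ p, p ∈ MulAction.orbit K q ↔ pt (R (idx p)) ∈ MulAction.orbit K q := by
  intro p
  have hd := hdec ⟨idx p, idx_lt p⟩
  simp only [] at hd
  rw [pt_idx] at hd
  conv_lhs => rw [hd]
  exact orbit_inv (hW _) _

/-- a set which is a union of classes is given by a mask -/
theorem mem_iff_of_reps {O : Set GolayPt} {R : ℕ → ℕ} (hrep : ∀ p, p ∈ O ↔ pt (R (idx p)) ∈ O)
    (c : ℕ → Bool) (hc : ∀ i : Fin 24, (pt (R i) ∈ O ↔ c (R i) = true)) (m : ℕ)
    (hm : ∀ i : Fin 24, m.testBit i = c (R i)) : ∀ p, p ∈ O ↔ p ∈ fs m := by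
  intro p
  have h1 := hc ⟨idx p, idx_lt p⟩
  have h2 := hm ⟨idx p, idx_lt p⟩
  simp only [] at h1 h2
  rw [mem_fs, hrep p, h1, h2]

/-- the representative of the cycle of `z` -/
def zR (i : ℕ) : ℕ := zrepL.getD (zcF i) 0

/-- the union of the cycles of `z` indicated -/
def cmaskZ (c23 c7 c13 cA cB cC : Bool) : ℕ :=
  (if c23 then 8388608 else 0) + (if c7 then 128 else 0) + (if c13 then 8192 else 0) +
    (if cA then 87121 else 0) + (if cB then 2130478 else 0) + (if cC then 6162688 else 0)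

def cfunZ (c23 c7 c13 cA cB cC : Bool) (r : ℕ) : Bool :=
  if r = 23 then c23 else if r = 7 then c7 else if r = 13 then c13 else if r = 0 then cA else
    if r = 1 then cB else cC

theorem cmaskZ_spec : ∀ (c23 c7 c13 cA cB cC : Bool) (i : Fin 24),
    (cmaskZ c23 c7 c13 cA cB cC).testBit i = cfunZ c23 c7 c13 cA cB cC (zR i) := by decide

theorem zR_cases : ∀ i : Fin 24, zR i = 23 ∨ zR i = 7 ∨ zR i = 13 ∨ zR i = 0 ∨ zR i = 1 ∨ zR i = 8 := by decide

/-- the orbits of a group containing `z` -/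
theorem orbit_maskZ (K : Subgroup (Equiv.Perm GolayPt)) (hz : z ∈ K) (q : GolayPt) :
    ∃ c23 c7 c13 cA cB cC : Bool, (∀ p, p ∈ MulAction.orbit K q ↔ p ∈ fs (cmaskZ c23 c7 c13 cA cB cC)) ∧
      (pt 23 ∈ MulAction.orbit K q ↔ c23 = true) := by
  classical
  have hrep := rep_iff (K := K) (q := q) zR (fun i => z ^ (zjF i)) (fun i => K.pow_mem hz _) z_dec
  refine ⟨decide (pt 23 ∈ MulAction.orbit K q), decide (pt 7 ∈ MulAction.orbit K q),
    decide (pt 13 ∈ MulAction.orbit K q), decide (pt 0 ∈ MulAction.orbit K q),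
    decide (pt 1 ∈ MulAction.orbit K q), decide (pt 8 ∈ MulAction.orbit K q), ?_, by simp⟩
  apply mem_iff_of_reps hrep (cfunZ (decide (pt 23 ∈ MulAction.orbit K q)) (decide (pt 7 ∈ MulAction.orbit K q))
    (decide (pt 13 ∈ MulAction.orbit K q)) (decide (pt 0 ∈ MulAction.orbit K q))
    (decide (pt 1 ∈ MulAction.orbit K q)) (decide (pt 8 ∈ MulAction.orbit K q)))
  · intro i
    rcases zR_cases i with h | h | h | h | h | h <;> rw [h] <;> simp [cfunZ]
  · intro i
    exact cmaskZ_spec _ _ _ _ _ _ i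

/-- the union of the orbits of `⟨z, t⟩` indicated -/
def cmaskZT (c23 c7 c8 c0 : Bool) : ℕ :=
  (if c23 then 8388608 else 0) + (if c7 then 8320 else 0) + (if c8 then 6162688 else 0) +
    (if c0 then 2217599 else 0)

def cfunZT (c23 c7 c8 c0 : Bool) (r : ℕ) : Bool :=
  if r = 23 then c23 else if r = 7 then c7 else if r = 8 then c8 else c0

def ztR (i : ℕ) : ℕ := RL.getD i 0

theorem cmaskZT_spec : ∀ (c23 c7 c8 c0 : Bool) (i : Fin 24),
    (cmaskZT c23 c7 c8 c0).testBit i = cfunZT c23 c7 c8 c0 (ztR i) := by decide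

theorem ztR_cases : ∀ i : Fin 24, ztR i = 23 ∨ ztR i = 7 ∨ ztR i = 8 ∨ ztR i = 0 := by decide

/-- the orbits of a group containing `z` and `t` -/
theorem orbit_maskZT (K : Subgroup (Equiv.Perm GolayPt)) (hz : z ∈ K) (ht : t ∈ K) (q : GolayPt) :
    ∃ c23 c7 c8 c0 : Bool, (∀ p, p ∈ MulAction.orbit K q ↔ p ∈ fs (cmaskZT c23 c7 c8 c0)) ∧
      (pt 23 ∈ MulAction.orbit K q ↔ c23 = true) := by
  classical
  have hrep := rep_iff (K := K) (q := q) ztR (fun i => z ^ (JL.getD i 0) * t ^ (EL.getD i 0))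
    (fun i => K.mul_mem (K.pow_mem hz _) (K.pow_mem ht _)) decomp
  refine ⟨decide (pt 23 ∈ MulAction.orbit K q), decide (pt 7 ∈ MulAction.orbit K q),
    decide (pt 8 ∈ MulAction.orbit K q), decide (pt 0 ∈ MulAction.orbit K q), ?_, by simp⟩
  apply mem_iff_of_reps hrep (cfunZT (decide (pt 23 ∈ MulAction.orbit K q)) (decide (pt 7 ∈ MulAction.orbit K q))
    (decide (pt 8 ∈ MulAction.orbit K q)) (decide (pt 0 ∈ MulAction.orbit K q)))
  · intro i
    rcases ztR_cases i with h | h | h | h <;> rw [h] <;> simp [cfunZT]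
  · intro i
    exact cmaskZT_spec _ _ _ _ i

/-- the number of points of an orbit given by a mask -/
theorem card_orbit_of_mask {K : Subgroup (Equiv.Perm GolayPt)} {q : GolayPt} {m : ℕ}
    (h : ∀ p, p ∈ MulAction.orbit K q ↔ p ∈ fs m) : Nat.card (MulAction.orbit K q) = pc 24 m := by
  have e : MulAction.orbit K q = ↑(fs m) := by
    ext p
    rw [h]
    rfl
  rw [e, Nat.card_coe_set_eq, Set.ncard_coe_finset, card_fs]

/-- a subgroup of the stabiliser of `∞` containing `z` and `t` of order not divisible by 23 has order dividing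
40320 -/
theorem card_dvd_of_zt {K : Subgroup (Equiv.Perm GolayPt)} (hK : K ≤ G1) (h23 : ¬ 23 ∣ Nat.card K)
    (hz : z ∈ K) (ht : t ∈ K) : Nat.card K ∣ 40320 := by
  rcases core' K hK h23 hz ht with h | h
  · have := Subgroup.card_dvd_of_le h
    rwa [card_Ds] at this
  · have := Subgroup.card_dvd_of_le h
    rwa [card_Do] at this

/-! ### the normaliser of `⟨x⟩` -/

theorem x_fixed : ∀ (k : Fin 11) (v : Fin 24), (k : ℕ) ≠ 0 → (xpowL.getD k []).getD v 0 = v →
    (v : ℕ) = 0 ∨ (v : ℕ) = 23 := by decide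

theorem y_conj : y * x * y⁻¹ = x ^ 3 := by
  rw [mul_inv_eq_iff_eq_mul]
  apply Equiv.ext
  intro p; revert p; decide

theorem y_conj_inv : y⁻¹ * x * y = x ^ 4 := by
  rw [mul_assoc, inv_mul_eq_iff_eq_mul]
  apply Equiv.ext
  intro p; revert p; decide

/-- the normaliser of `⟨x⟩` in the stabiliser of `∞` -/
def NX : Subgroup (Equiv.Perm GolayPt) :=
  G1 ⊓ Subgroup.normalizer ((Subgroup.zpowers x : Subgroup (Equiv.Perm GolayPt)) : Set (Equiv.Perm GolayPt))

theorem NX_subset_SX : (NX : Set (Equiv.Perm GolayPt)) ⊆ SX := by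
  intro g hg
  obtain ⟨h1, h2⟩ := Subgroup.mem_inf.1 hg
  obtain ⟨h3, h4⟩ := mem_G1.1 h1
  have hn : g * x * g⁻¹ ∈ Subgroup.zpowers x :=
    (Subgroup.mem_normalizer_iff.1 h2 x).1 (Subgroup.mem_zpowers x)
  refine ⟨h3, ?_, h4, hn⟩
  obtain ⟨k, hk1, hk2, hk⟩ := exists_exponent (by norm_num : 1 < 11) orderOf_x hn
  have h5 := pow_apply_of_fixed hk x_fix0
  have h6 := xpow_tab ⟨k, hk2⟩ ⟨idx (g (pt 0)), idx_lt _⟩
  simp only [] at h6
  rw [pt_idx, h5] at h6
  have h7 := x_fixed ⟨k, hk2⟩ ⟨idx (g (pt 0)), idx_lt _⟩ (by simpa using hk1.ne') h6.symm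
  simp only [] at h7
  rcases h7 with h7 | h7
  · exact eq_pt_of_idx h7
  · exfalso
    have : g (pt 0) = g (pt 23) := by rw [eq_pt_of_idx h7, h4]
    exact absurd (g.injective this) (by decide)

theorem x_mem_G1 : x ∈ G1 := mem_G1.2 ⟨x_mem, x_fix23⟩

theorem x_mem_NX : x ∈ NX := by
  refine Subgroup.mem_inf.2 ⟨x_mem_G1, ?_⟩
  apply mem_normalizer_zpowers
  · rw [mul_inv_cancel_right]; exact Subgroup.mem_zpowers x
  · rw [inv_mul_cancel, one_mul]; exact Subgroup.mem_zpowers x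

theorem y_mem_NX : y ∈ NX := by
  refine Subgroup.mem_inf.2 ⟨mem_G1.2 ⟨y_mem, y_fix23⟩, ?_⟩
  apply mem_normalizer_zpowers
  · rw [y_conj]; exact Subgroup.pow_mem _ (Subgroup.mem_zpowers x) 3
  · rw [y_conj_inv]; exact Subgroup.pow_mem _ (Subgroup.mem_zpowers x) 4

theorem card_NX : Nat.card NX = 55 := by
  have hle : Nat.card NX ≤ 55 := by
    have hc : Nat.card NX = (NX : Set (Equiv.Perm GolayPt)).ncard := Nat.card_coe_set_eq _
    rw [hc]
    exact (Set.ncard_le_ncard NX_subset_SX (Set.toFinite _)).trans ncard_SX_le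
  have h11 : 11 ∣ Nat.card NX := by
    have := orderOf_dvd_natCard (⟨x, x_mem_NX⟩ : NX)
    rwa [Subgroup.orderOf_mk, orderOf_x] at this
  have h5 : 5 ∣ Nat.card NX := by
    have := orderOf_dvd_natCard (⟨y, y_mem_NX⟩ : NX)
    rwa [Subgroup.orderOf_mk, orderOf_y] at this
  have hpos : 0 < Nat.card NX := Nat.card_pos
  omega

/-- `M23` has no subgroup of order 55440 -/
theorem no_card_G1_55440 (K : Subgroup (Equiv.Perm GolayPt)) (hK : K ≤ G1) : Nat.card K ≠ 55440 := by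
  intro hcard
  have : Fact (Nat.Prime 11) := ⟨by norm_num⟩
  obtain ⟨τ, hτ, hxK'⟩ := exists_conj_mem K hK 11 (by rw [card_G1]; norm_num) (by rw [hcard]; norm_num)
    x_mem_G1 orderOf_x
  set K' := K.map (MulAut.conj τ).toMonoidHom with hK'
  have hK'le : K' ≤ G1 := by
    rintro _ ⟨g, hg, rfl⟩
    show τ * g * τ⁻¹ ∈ G1
    exact G1.mul_mem (G1.mul_mem hτ (hK hg)) (G1.inv_mem hτ)
  have hK'card : Nat.card K' = 55440 := (M23Idx.card_map_conj τ K).trans hcard
  obtain ⟨n, hn, hmod⟩ := sylow_count_normalizer K' x hxK' 11 orderOf_x (by rw [hK'card]; norm_num)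
  set N : Subgroup (Equiv.Perm GolayPt) :=
    K' ⊓ Subgroup.normalizer ((Subgroup.zpowers x : Subgroup (Equiv.Perm GolayPt)) : Set (Equiv.Perm GolayPt))
    with hN
  have hNle : N ≤ NX := by
    intro g hg
    obtain ⟨h1, h2⟩ := Subgroup.mem_inf.1 hg
    exact Subgroup.mem_inf.2 ⟨hK'le h1, h2⟩
  have hdvd : Nat.card N ∣ 55 := by
    have := Subgroup.card_dvd_of_le hNle
    rwa [card_NX] at this
  have hxN : x ∈ N := Subgroup.mem_inf.2 ⟨hxK', (Subgroup.mem_inf.1 x_mem_NX).2⟩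
  have h11 : 11 ∣ Nat.card N := by
    have := orderOf_dvd_natCard (⟨x, hxN⟩ : N)
    rwa [Subgroup.orderOf_mk, orderOf_x] at this
  obtain ⟨c, hc⟩ := h11
  have hc5 : c ∣ 5 := by
    rw [hc] at hdvd
    exact (Nat.mul_dvd_mul_iff_left (by norm_num : 0 < 11)).1 (by simpa using hdvd)
  have hmod' : n % 11 = 1 := hmod
  rw [hK'card, hc] at hn
  have hcle : c ≤ 5 := Nat.le_of_dvd (by norm_num) hc5
  have hcpos : 0 < c := Nat.pos_of_dvd_of_pos hc5 (by norm_num)
  interval_cases c <;> omega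

end Cfsg.Agent.Lib.Helper8.M24Idx
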