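import Cfsg.Agent.Lib.Helper8.M24Idx.PartB

/-!
# Subgroups of index 276 in `M24`

A subgroup of order 887040 of `M24` is the stabiliser of a duad.
-/

set_option autoImplicit false

namespace Cfsg.Agent.Lib.Helper8.M24Idx

open Cfsg Cfsg.Agent.Lib.Helper6.Golay Cfsg.Agent.Lib.Helper6.PermChain Cfsg.Agent.Lib.Helper8.M22Idx
  Cfsg.Agent.Lib.Helper8.M23Idx Cfsg.Agent.Lib.Helper8.M24Search
open scoped Pointwise

/-- the stabiliser of a duad in `M24` has at most 887040 elements -/
theorem card_stab_duad_le (s : Finset GolayPt) (hs : s.card = 2) :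
    Nat.card (M24 ⊓ MulAction.stabilizer (Equiv.Perm GolayPt) s : Subgroup (Equiv.Perm GolayPt)) ≤ 887040 := by
  obtain ⟨a, a', haa, rfl⟩ := Finset.card_eq_two.1 hs
  have h := card_mul_card_inf_stabilizer_le M24 ({a, a'} : Finset GolayPt)
    ((Finset.univ : Finset GolayPt).powersetCard 2) (by
    intro b hb
    rw [Finset.mem_powersetCard] at hb
    obtain ⟨-, hc⟩ := hb
    obtain ⟨p, q, hpq, rfl⟩ := Finset.card_eq_two.1 hc
    let e1 : Fin 2 ↪ GolayPt := ⟨![a, a'], by
      intro i j h; fin_cases i <;> fin_cases j <;> simp_all [eq_comm]⟩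
    let e2 : Fin 2 ↪ GolayPt := ⟨![p, q], by
      intro i j h; fin_cases i <;> fin_cases j <;> simp_all [eq_comm]⟩
    obtain ⟨g, hg, hge⟩ := exists_M24_map (by norm_num) e1 e2
    have h0 : g a = p := hge 0
    have h1 : g a' = q := hge 1
    refine ⟨g, hg, ?_⟩
    rw [Finset.smul_finset_insert, Finset.smul_finset_singleton]
    show ({g a, g a'} : Finset GolayPt) = {p, q}
    rw [h0, h1])
  rw [Finset.card_powersetCard, card_univ_golayPt, card_M24'] at h
  have h276 : Nat.choose 24 2 = 276 := by decide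
  rw [h276] at h
  omega

/-- the possible orbits of `∞` under a group containing `z` -/
theorem maskZ_cases : ∀ c7 c13 cA cB cC : Bool,
    pc 24 (cmaskZ true c7 c13 cA cB cC) % 2 = 1 ∨
    cmaskZ true c7 c13 cA cB cC = 8388736 ∨ cmaskZ true c7 c13 cA cB cC = 8396800 ∨
    cmaskZ true c7 c13 cA cB cC = 16768895 ∨
    pc 24 (cmaskZ true c7 c13 cA cB cC) = 8 ∨ pc 24 (cmaskZ true c7 c13 cA cB cC) = 10 ∨
    pc 24 (cmaskZ true c7 c13 cA cB cC) = 16 ∨ pc 24 (cmaskZ true c7 c13 cA cB cC) = 24 := by decide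

/-- the length of the orbit of `∞` is even -/
theorem orbit_even {m s : ℕ} (h : m * s = 887040) (hd : s ∣ 10200960) : m % 2 ≠ 1 := by
  intro hodd
  have hco : Nat.Coprime 256 m := by
    have : Nat.Coprime 2 m := Nat.coprime_two_left.2 (Nat.odd_iff.2 hodd)
    exact Nat.Coprime.pow_left 8 this
  have h256 : 256 ∣ m * s := by rw [h]; norm_num
  have h1 : 256 ∣ s := hco.dvd_of_dvd_mul_left h256
  have h2 : 256 ∣ 10200960 := h1.trans hd
  norm_num at h2

/-- the orders of point stabilisers which cannot occur -/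
theorem no_P (P : Subgroup (Equiv.Perm GolayPt)) (hP : P ≤ G1) (hz : z ∈ P)
    (hcard : Nat.card P = 110880 ∨ Nat.card P = 88704 ∨ Nat.card P = 36960 ∨ Nat.card P = 55440) : False := by
  by_cases h5 : Nat.card P = 55440
  · exact no_card_G1_55440 P hP h5
  have h49 : ¬ 49 ∣ Nat.card P := by
    rcases hcard with h | h | h | h <;> rw [h] <;> norm_num
  have h23 : ¬ 23 ∣ Nat.card P := by
    rcases hcard with h | h | h | h <;> rw [h] <;> norm_num
  obtain ⟨c, n, hcn, hn, hc6, hct, -⟩ := sylow7_G1 P hP hz h49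
  have hcle : c ≤ 6 := Nat.le_of_dvd (by norm_num) hc6
  have hcpos : 0 < c := Nat.pos_of_dvd_of_pos hc6 (by norm_num)
  have ht : t ∈ P := by
    apply hct
    rcases hcard with h | h | h | h
    · rw [h] at hcn
      interval_cases c <;> omega
    · rw [h] at hcn
      interval_cases c <;> omega
    · rw [h] at hcn
      interval_cases c <;> omega
    · exact absurd h h5
  have hd := card_dvd_of_zt hP h23 hz ht
  rcases hcard with h | h | h | h
  · rw [h] at hd; norm_num at hd
  · rw [h] at hd; norm_num at hd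
  · rw [h] at hd; norm_num at hd
  · exact h5 h

/-- a subgroup of order 887040 of `M24` containing `z` fixes a duad -/
theorem exists_duad_of_z (K : Subgroup (Equiv.Perm GolayPt)) (hK : K ≤ M24) (hcard : Nat.card K = 887040)
    (hz : z ∈ K) : ∃ s : Finset GolayPt, s.card = 2 ∧ ∀ g ∈ K, g • s = s := by
  have hz23 : z (pt 23) = pt 23 := (mem_G1.1 z_mem_G1).2
  have hzP : z ∈ ptStab K (pt 23) := mem_ptStab.2 ⟨hz, hz23⟩
  have hPle : ptStab K (pt 23) ≤ G1 := ptStab_le_fixL hK (pt 23)
  have hmul := card_orbit_mul_card_ptStab K (pt 23)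
  rw [hcard] at hmul
  have hdvd := card_ptStab_dvd hK (pt 23)
  obtain ⟨c23, c7, c13, cA, cB, cC, horb, h23⟩ := orbit_maskZ K hz (pt 23)
  have hc23 : c23 = true := h23.1 (MulAction.mem_orbit_self _)
  subst hc23
  have hm := card_orbit_of_mask horb
  have heven := orbit_even hmul hdvd
  rw [hm] at hmul heven
  rcases maskZ_cases c7 c13 cA cB cC with h | h | h | h | h | h | h | h
  · exact absurd h heven
  · rw [h] at horb
    exact ⟨fs 8388736, by decide, fun g hg => smul_fs_eq_of_orbit horb hg⟩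
  · rw [h] at horb
    exact ⟨fs 8396800, by decide, fun g hg => smul_fs_eq_of_orbit horb hg⟩
  · rw [h] at horb
    refine ⟨s0, by decide, fun g hg => ?_⟩
    have h1 := smul_fs_eq_of_orbit horb hg
    have e : s0 = Finset.univ \ fs 16768895 := by decide
    rw [e, Finset.smul_finset_sdiff, Finset.smul_finset_univ, h1]
  · exfalso
    rw [h] at hmul
    exact no_P _ hPle hzP (Or.inl (by omega))
  · exfalso
    rw [h] at hmul
    exact no_P _ hPle hzP (Or.inr (Or.inl (by omega)))
  · exfalso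
    rw [h] at hmul
    exact no_P _ hPle hzP (Or.inr (Or.inr (Or.inr (by omega))))
  · exfalso
    rw [h] at hmul
    exact no_P _ hPle hzP (Or.inr (Or.inr (Or.inl (by omega))))

/-- **a subgroup of order 887040 of `M24` is the stabiliser of a duad** -/
theorem main_duad (K : Subgroup (Equiv.Perm GolayPt)) (hK : K ≤ M24) (hcard : Nat.card K = 887040) :
    ∃ s : Finset GolayPt, s.card = 2 ∧ ∀ g, g ∈ K ↔ g ∈ M24 ∧ g • s = s := by
  have : Fact (Nat.Prime 7) := ⟨by norm_num⟩
  obtain ⟨τ, hτ, hzK'⟩ := exists_conj_mem K hK 7 (by rw [card_M24']; norm_num) (by rw [hcard]; norm_num)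
    z_mem orderOf_z
  set K' := K.map (MulAut.conj τ).toMonoidHom with hK'
  have hK'le : K' ≤ M24 := map_conj_le_M24 hτ hK
  have hK'card : Nat.card K' = 887040 := (M23Idx.card_map_conj τ K).trans hcard
  obtain ⟨s, hs, hfix⟩ := exists_duad_of_z K' hK'le hK'card hzK'
  have hle : K' ≤ M24 ⊓ MulAction.stabilizer (Equiv.Perm GolayPt) s := by
    intro g hg
    exact Subgroup.mem_inf.2 ⟨hK'le hg, MulAction.mem_stabilizer_iff.2 (hfix g hg)⟩
  have heq : K' = M24 ⊓ MulAction.stabilizer (Equiv.Perm GolayPt) s := by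
    apply Subgroup.eq_of_le_of_card_ge hle
    rw [hK'card]
    exact card_stab_duad_le s hs
  refine ⟨τ⁻¹ • s, by rw [Finset.card_smul_finset, hs], fun g => ?_⟩
  have h1 : g ∈ K ↔ τ * g * τ⁻¹ ∈ K' := by
    constructor
    · intro hg
      exact ⟨g, hg, rfl⟩
    · rintro ⟨g', hg', hgg⟩
      have : g' = g := (MulAut.conj τ).injective hgg
      rwa [← this]
  rw [h1, heq, Subgroup.mem_inf]
  refine and_congr ?_ ?_
  · rw [M24.mul_mem_cancel_right (M24.inv_mem hτ), M24.mul_mem_cancel_left hτ]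
  · rw [MulAction.mem_stabilizer_iff, mul_smul, mul_smul, smul_eq_iff_eq_inv_smul]

end Cfsg.Agent.Lib.Helper8.M24Idx
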