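import Cfsg.Agent.Lib.Helper8.M24Idx.NormF
import Cfsg.Agent.Lib.Helper6.GolaySextetMax
import Cfsg.Agent.Lib.Helper6.GolaySixSets

/-!
# Subgroups of index 1771 in `M24`: general lemmas

* a group preserving a set of `n` points has a subgroup of index at most `n!` fixing the set pointwise;
* the pointwise stabiliser of six points has at most 16 elements;
* the pointwise stabiliser `QT` of the tetrad `{∞, 0, 1, 2}`;
* a subgroup of order 138240 meeting the stabiliser of the reference sextet in more than 13824 elements is contained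
  in it;
* elements normalising `⟨f5⟩`.
-/

set_option autoImplicit false

namespace Cfsg.Agent.Lib.Helper8.M24Idx

open Cfsg Cfsg.Agent.Lib.Helper6.Golay Cfsg.Agent.Lib.Helper6.PermChain Cfsg.Agent.Lib.Helper8.M22Idx
  Cfsg.Agent.Lib.Helper8.M23Idx Cfsg.Agent.Lib.Helper8.M24Search
open scoped Pointwise

/-- the point stabiliser preserves the set without the point -/
theorem smul_erase_of_ptStab {X : Subgroup (Equiv.Perm GolayPt)} {B : Finset GolayPt}
    (hX : ∀ g ∈ X, g • B = B) (p : GolayPt) : ∀ g ∈ ptStab X p, g • B.erase p = B.erase p := by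
  intro g hg
  obtain ⟨hgX, hgp⟩ := mem_ptStab.1 hg
  apply Finset.eq_of_subset_of_card_le
  · intro q hq
    obtain ⟨y, hy, rfl⟩ := Finset.mem_smul_finset.1 hq
    obtain ⟨hyp, hyB⟩ := Finset.mem_erase.1 hy
    rw [Finset.mem_erase]
    refine ⟨?_, ?_⟩
    · intro h
      apply hyp
      apply g.injective
      rw [hgp]
      exact h
    · rw [← hX g hgX]
      exact Finset.smul_mem_smul_finset hyB
  · rw [Finset.card_smul_finset]

/-- a group preserving a set of `n` points has a subgroup of index at most `n!` fixing the set pointwise -/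
theorem exists_fix_of_preserves : ∀ (n : ℕ) (X : Subgroup (Equiv.Perm GolayPt)) (B : Finset GolayPt), B.card = n →
    (∀ g ∈ X, g • B = B) →
    ∃ Y : Subgroup (Equiv.Perm GolayPt), Y ≤ X ∧ (∀ g ∈ Y, ∀ p ∈ B, g p = p) ∧
      Nat.card X ≤ n.factorial * Nat.card Y := by
  intro n
  induction n with
  | zero =>
    intro X B hB hX
    refine ⟨X, le_rfl, ?_, by simp⟩
    intro g hg p hp
    rw [Finset.card_eq_zero] at hB
    rw [hB] at hp
    exact absurd hp (Finset.notMem_empty p)
  | succ n ih =>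
    intro X B hB hX
    have hne : B.Nonempty := by
      rw [← Finset.card_pos, hB]
      omega
    obtain ⟨p, hp⟩ := hne
    obtain ⟨Y, hYle, hYfix, hYcard⟩ := ih (ptStab X p) (B.erase p)
      (by rw [Finset.card_erase_of_mem hp, hB]; rfl) (smul_erase_of_ptStab hX p)
    refine ⟨Y, hYle.trans (ptStab_le X p), ?_, ?_⟩
    · intro g hg q hq
      by_cases hqp : q = p
      · rw [hqp]
        exact (mem_ptStab.1 (hYle hg)).2
      · exact hYfix g hg q (Finset.mem_erase.2 ⟨hqp, hq⟩)
    · have horb : Nat.card (MulAction.orbit X p) ≤ n + 1 := by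
        rw [← hB, Nat.card_coe_set_eq, ← Set.ncard_coe_finset B]
        apply Set.ncard_le_ncard _ (Finset.finite_toSet B)
        intro q hq
        obtain ⟨g, hg, rfl⟩ := mem_orbit_sub.1 hq
        rw [Finset.mem_coe, ← hX g hg]
        exact Finset.smul_mem_smul_finset hp
      have hmul := card_orbit_mul_card_ptStab X p
      rw [Nat.factorial_succ]
      calc Nat.card X = Nat.card (MulAction.orbit X p) * Nat.card (ptStab X p) := hmul.symm
        _ ≤ (n + 1) * (n.factorial * Nat.card Y) := Nat.mul_le_mul horb hYcard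
        _ = (n + 1) * n.factorial * Nat.card Y := by ring

/-- the pointwise stabiliser of six points has at most 16 elements -/
theorem card_fixL_append_le (l : List GolayPt) (hl : l.Nodup) (h5 : l.length = 5) (q : GolayPt) (hq : q ∉ l) :
    Nat.card (fixL M24 (l ++ [q])) ≤ 16 := by
  have hlen : l.length = (Lk 5).length := by rw [h5]; decide
  obtain ⟨t, ht, hmap⟩ := exists_M24_map_list l (Lk 5) hl (by decide) hlen (by omega)
  have hmapL : l.map t = Lk 5 := by
    apply List.ext_get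
    · rw [List.length_map, hlen]
    · intro i h1 h2
      rw [List.get_eq_getElem, List.getElem_map]
      have := hmap i (by rw [List.length_map] at h1; exact h1)
      rw [List.get_eq_getElem, List.get_eq_getElem] at this
      exact this
  have htq : t q ∉ Lk 5 := by
    rw [← hmapL, List.mem_map]
    rintro ⟨x, hx, hxq⟩
    exact hq (t.injective hxq ▸ hx)
  have e : (l ++ [q]).map t = Lk 5 ++ [t q] := by
    rw [List.map_append, hmapL]
    rfl
  rw [← card_fixL_map M24 ht (l ++ [q]), e, card_fix5_point (t q) htq]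
  split_ifs <;> norm_num

/-- the pointwise stabiliser of the tetrad `{∞, 0, 1, 2}` -/
def QT : Subgroup (Equiv.Perm GolayPt) := fixL M24 (Lk 4)

theorem Lk4_eq : Lk 4 = [pt 23, pt 0, pt 1, pt 2] := by decide

theorem card_QT : Nat.card QT = 960 := (card_fixL_chain hasGens_M24 le_rfl).2.2.2.1

theorem mem_QT {g : Equiv.Perm GolayPt} :
    g ∈ QT ↔ g ∈ M24 ∧ g (pt 23) = pt 23 ∧ g (pt 0) = pt 0 ∧ g (pt 1) = pt 1 ∧ g (pt 2) = pt 2 := by
  rw [QT, mem_fixL, Lk4_eq]
  simp

/-- `QT` is transitive on the twenty other points -/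
theorem QT_trans {q q' : GolayPt} (hq : q ∉ [pt 23, pt 0, pt 1, pt 2]) (hq' : q' ∉ [pt 23, pt 0, pt 1, pt 2]) :
    ∃ h ∈ QT, h q = q' := by
  have hnd : ∀ a : GolayPt, a ∉ [pt 23, pt 0, pt 1, pt 2] → [pt 23, pt 0, pt 1, pt 2, a].Nodup := by
    intro a ha
    have e : [pt 23, pt 0, pt 1, pt 2, a] = [pt 23, pt 0, pt 1, pt 2] ++ [a] := rfl
    rw [e, List.nodup_append]
    refine ⟨by decide, by simp, ?_⟩
    intro x hx y hy
    rw [List.mem_singleton] at hy
    rw [hy]
    intro hxa
    exact ha (hxa ▸ hx)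
  obtain ⟨h, hh, hmap⟩ := exists_M24_map_list [pt 23, pt 0, pt 1, pt 2, q] [pt 23, pt 0, pt 1, pt 2, q']
    (hnd q hq) (hnd q' hq') rfl (by simp)
  refine ⟨h, mem_QT.2 ⟨hh, hmap 0 (by simp), hmap 1 (by simp), hmap 2 (by simp), hmap 3 (by simp)⟩,
    hmap 4 (by simp)⟩

/-! ### the stabiliser of the reference sextet -/

theorem card_HSx : Nat.card HSx = 138240 := by
  rw [HSx, ← map_subtype_stabilizer, Subgroup.card_map_of_injective M24.subtype_injective]
  have h := Subgroup.card_mul_index (MulAction.stabilizer M24 sextet0)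
  rw [index_stabilizer_sextet sextet0_mem, card_M24] at h
  exact Nat.eq_of_mul_eq_mul_right (by norm_num : 0 < 1771) (h.trans (by norm_num))

theorem orbSet_eq_orbit {H : Subgroup (Equiv.Perm GolayPt)} {X S' : Finset (Finset GolayPt)}
    (h : S' ∈ OrbSet H X) : MulAction.orbit H S' = OrbSet H X := by
  obtain ⟨g0, hg0, rfl⟩ := h
  ext Y
  constructor
  · rintro ⟨h, rfl⟩
    refine ⟨(h : Equiv.Perm GolayPt) * g0, H.mul_mem h.2 hg0, ?_⟩
    rw [mul_smul]
    rfl
  · rintro ⟨g, hg, rfl⟩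
    refine ⟨⟨g * g0⁻¹, H.mul_mem hg (H.inv_mem hg0)⟩, ?_⟩
    show (g * g0⁻¹) • g0 • X = g • X
    rw [mul_smul, inv_smul_smul]

/-- a subgroup of order 138240 meeting the stabiliser of the reference sextet in more than 13824 elements is
contained in it -/
theorem le_HSx_of_card (K : Subgroup (Equiv.Perm GolayPt)) (hK : K ≤ M24) (hcard : Nat.card K = 138240)
    (hbig : 13824 < Nat.card (K ⊓ HSx : Subgroup (Equiv.Perm GolayPt))) : K ≤ HSx := by
  by_contra hnot
  obtain ⟨k, hkK, hkH⟩ := SetLike.not_le_iff_exists.1 hnot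
  have hS'ne : k • sextet0 ≠ sextet0 := fun h => hkH (mem_HSx.2 ⟨hK hkK, h⟩)
  have hS'mem : k • sextet0 ∈ sextets := smul_mem_sextets (hK hkK) sextet0_mem
  have hKs : (K ⊓ MulAction.stabilizer (Equiv.Perm GolayPt) sextet0 : Subgroup (Equiv.Perm GolayPt)) =
      K ⊓ HSx := by
    ext g
    rw [Subgroup.mem_inf, Subgroup.mem_inf, mem_HSx]
    constructor
    · rintro ⟨h1, h2⟩
      exact ⟨h1, hK h1, MulAction.mem_stabilizer_iff.1 h2⟩
    · rintro ⟨h1, -, h2⟩
      exact ⟨h1, MulAction.mem_stabilizer_iff.2 h2⟩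
  have h1 := card_orbit_mul_card_inf_stabilizer K sextet0
  rw [hKs, hcard] at h1
  have hOK : Nat.card (MulAction.orbit K sextet0) ≤ 9 := by
    by_contra hh
    have h10 : 10 ≤ Nat.card (MulAction.orbit K sextet0) := by omega
    have := Nat.mul_le_mul h10 (show 13825 ≤ Nat.card (K ⊓ HSx : Subgroup (Equiv.Perm GolayPt)) from hbig)
    omega
  -- the orbit of the other sextet under the intersection
  have hsub : MulAction.orbit (K ⊓ HSx : Subgroup (Equiv.Perm GolayPt)) (k • sextet0) ⊆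
      MulAction.orbit K sextet0 \ {sextet0} := by
    rintro _ ⟨h, rfl⟩
    obtain ⟨hhK, hhH⟩ := Subgroup.mem_inf.1 h.2
    refine ⟨⟨⟨(h : Equiv.Perm GolayPt) * k, K.mul_mem hhK hkK⟩, ?_⟩, ?_⟩
    · show ((h : Equiv.Perm GolayPt) * k) • sextet0 = (h : Equiv.Perm GolayPt) • k • sextet0
      rw [mul_smul]
    · rw [Set.mem_singleton_iff]
      intro heq
      apply hS'ne
      have h2 : (h : Equiv.Perm GolayPt) • k • sextet0 = sextet0 := heq
      have h3 : (h : Equiv.Perm GolayPt) • sextet0 = sextet0 := (mem_HSx.1 hhH).2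
      exact smul_left_cancel _ (h2.trans h3.symm)
  have hself : sextet0 ∈ MulAction.orbit K sextet0 := MulAction.mem_orbit_self _
  have hOI : Nat.card (MulAction.orbit (K ⊓ HSx : Subgroup (Equiv.Perm GolayPt)) (k • sextet0)) ≤ 8 := by
    have e1 : Nat.card (MulAction.orbit (K ⊓ HSx : Subgroup (Equiv.Perm GolayPt)) (k • sextet0)) =
        (MulAction.orbit (K ⊓ HSx : Subgroup (Equiv.Perm GolayPt)) (k • sextet0)).ncard := Nat.card_coe_set_eq _
    have e2 : Nat.card (MulAction.orbit K sextet0) = (MulAction.orbit K sextet0).ncard := Nat.card_coe_set_eq _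
    have h2 := Set.ncard_le_ncard hsub (Set.toFinite _)
    rw [Set.ncard_diff_singleton_of_mem hself] at h2
    omega
  have h2 := card_orbit_mul_card_inf_stabilizer (K ⊓ HSx : Subgroup (Equiv.Perm GolayPt)) (k • sextet0)
  have h3 := card_orbit_mul_card_inf_stabilizer HSx (k • sextet0)
  rw [card_HSx] at h3
  have hle : Nat.card ((K ⊓ HSx) ⊓ MulAction.stabilizer (Equiv.Perm GolayPt) (k • sextet0) :
      Subgroup (Equiv.Perm GolayPt)) ≤
      Nat.card (HSx ⊓ MulAction.stabilizer (Equiv.Perm GolayPt) (k • sextet0) : Subgroup (Equiv.Perm GolayPt)) :=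
    Subgroup.card_le_of_le (inf_le_inf_right _ inf_le_right)
  have h90 : 90 ≤ Nat.card (MulAction.orbit HSx (k • sextet0)) := by
    obtain ⟨hU, hA, hB, hC⟩ := sextets_eq_union
    rw [hU] at hS'mem
    rcases hS'mem with ((h | h) | h) | h
    · exact absurd h hS'ne
    · rw [Nat.card_coe_set_eq, orbSet_eq_orbit h, hA]
    · rw [Nat.card_coe_set_eq, orbSet_eq_orbit h, hB]
      norm_num
    · rw [Nat.card_coe_set_eq, orbSet_eq_orbit h, hC]
      norm_num
  have h4 := Nat.mul_le_mul h90 hle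
  rw [h3] at h4
  have h5 := Nat.mul_le_mul hOI (show Nat.card ((K ⊓ HSx) ⊓ MulAction.stabilizer (Equiv.Perm GolayPt)
    (k • sextet0) : Subgroup (Equiv.Perm GolayPt)) ≤ 1536 by omega)
  rw [h2] at h5
  omega

/-! ### elements normalising `⟨f5⟩` -/

/-- an element conjugating `f5` into `⟨f5⟩` permutes the fixed points of `f5` -/
theorem image_fix_of_norm {g : Equiv.Perm GolayPt} (hn : g * f5 * g⁻¹ ∈ Subgroup.zpowers f5) {q : GolayPt}
    (hq : f5 q = q) : g q = pt 0 ∨ g q = pt 1 ∨ g q = pt 2 ∨ g q = pt 23 := by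
  obtain ⟨k, hk1, hk2, hk⟩ := exists_exponent (by norm_num : 1 < 5) orderOf_f5 hn
  have h1 := pow_apply_of_fixed hk hq
  have h2 := f5_tab ⟨k, hk2⟩ ⟨idx (g q), idx_lt _⟩
  simp only [] at h2
  rw [pt_idx, h1] at h2
  have h3 := f5_fixed ⟨k, hk2⟩ ⟨idx (g q), idx_lt _⟩ (by simpa using hk1.ne') h2.symm
  simp only [] at h3
  rcases h3 with h | h | h | h
  · exact Or.inl (eq_pt_of_idx h)
  · exact Or.inr (Or.inl (eq_pt_of_idx h))
  · exact Or.inr (Or.inr (Or.inl (eq_pt_of_idx h)))
  · exact Or.inr (Or.inr (Or.inr (eq_pt_of_idx h)))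

theorem tet0_eq : fs tet0 = {pt 0, pt 1, pt 2, pt 23} := by decide

/-- such an element fixes the reference sextet -/
theorem mem_HSx_of_norm {g : Equiv.Perm GolayPt} (hg : g ∈ M24)
    (hn : g * f5 * g⁻¹ ∈ Subgroup.zpowers f5) : g ∈ HSx := by
  have hT : g • fs tet0 = fs tet0 := by
    apply Finset.eq_of_subset_of_card_le
    · intro p hp
      obtain ⟨q, hq, rfl⟩ := Finset.mem_smul_finset.1 hp
      rw [tet0_eq] at hq ⊢
      simp only [Finset.mem_insert, Finset.mem_singleton] at hq ⊢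
      have hfq : f5 q = q := by
        rcases hq with rfl | rfl | rfl | rfl
        · exact f5_fix0
        · exact f5_fix1
        · exact f5_fix2
        · exact f5_fix23
      exact image_fix_of_norm hn hfq
    · rw [Finset.card_smul_finset]
  refine mem_HSx.2 ⟨hg, ?_⟩
  apply sextet0_unique (smul_mem_sextets hg sextet0_mem)
  rw [← hT]
  exact Finset.smul_mem_smul_finset tet0_mem

/-- a group preserving the tetrad lies in the stabiliser of the reference sextet -/
theorem mem_HSx_of_smul_tet0 {g : Equiv.Perm GolayPt} (hg : g ∈ M24) (hT : g • fs tet0 = fs tet0) : g ∈ HSx := by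
  refine mem_HSx.2 ⟨hg, ?_⟩
  apply sextet0_unique (smul_mem_sextets hg sextet0_mem)
  rw [← hT]
  exact Finset.smul_mem_smul_finset tet0_mem

/-- an element of a transitive group normalising `⟨f5⟩` and moving `∞` to a given fixed point of `f5` -/
theorem exists_norm_map {K : Subgroup (Equiv.Perm GolayPt)} (hf : f5 ∈ K) {y : GolayPt} (hy : f5 y = y)
    (h25 : ¬ 25 ∣ Nat.card (ptStab K y)) {g0 : Equiv.Perm GolayPt} (hg0 : g0 ∈ K) (hg0y : g0 (pt 23) = y) :
    ∃ g ∈ K, g * f5 * g⁻¹ ∈ Subgroup.zpowers f5 ∧ g (pt 23) = y := by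
  have : Fact (Nat.Prime 5) := ⟨by norm_num⟩
  have ha : g0 * f5 * g0⁻¹ ∈ ptStab K y := by
    refine mem_ptStab.2 ⟨K.mul_mem (K.mul_mem hg0 hf) (K.inv_mem hg0), ?_⟩
    have hinv : g0⁻¹ y = pt 23 := by rw [Equiv.Perm.inv_eq_iff_eq, hg0y]
    show g0 (f5 (g0⁻¹ y)) = y
    rw [hinv, f5_fix23, hg0y]
  have hb : f5 ∈ ptStab K y := mem_ptStab.2 ⟨hf, hy⟩
  have hoa : orderOf (g0 * f5 * g0⁻¹) = 5 := by
    have := MulEquiv.orderOf_eq (MulAut.conj g0) f5
    rw [MulAut.conj_apply] at this
    rw [this, orderOf_f5]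
  obtain ⟨t, ht, htc⟩ := exists_conj_zpowers (ptStab K y) 5
    (by rw [show (5 : ℕ) ^ 2 = 25 by norm_num]; exact h25) _ _ ha hb hoa orderOf_f5
  obtain ⟨htK, hty⟩ := mem_ptStab.1 ht
  refine ⟨t * g0, K.mul_mem htK hg0, ?_, ?_⟩
  · have e : t * g0 * f5 * (t * g0)⁻¹ = t * (g0 * f5 * g0⁻¹) * t⁻¹ := by group
    rw [e]
    exact htc
  · show t (g0 (pt 23)) = y
    rw [hg0y, hty]

end Cfsg.Agent.Lib.Helper8.M24Idx
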