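import Cfsg.Agent.Lib.Helper8.M24Idx.PartC2

/-!
# Subgroups of index 1771 in `M24`: orbits of groups containing `f5`

The orbits of a group containing `f5` are unions of the eight orbits of `⟨f5⟩`; those of a group containing `f5` and
`w3` are unions of the four orbits of `⟨f5, w3⟩`.
-/

set_option autoImplicit false

namespace Cfsg.Agent.Lib.Helper8.M24Idx

open Cfsg Cfsg.Agent.Lib.Helper6.Golay Cfsg.Agent.Lib.Helper6.PermChain Cfsg.Agent.Lib.Helper8.M22Idx
  Cfsg.Agent.Lib.Helper8.M23Idx Cfsg.Agent.Lib.Helper8.M24Search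
open scoped Pointwise

/-- the representative of the cycle of `f5` -/
def fR (i : ℕ) : ℕ := f5repL.getD (f5cF i) 0

/-- the union of the cycles of `f5` indicated -/
def cmaskF (c23 c0 c1 c2 cA cB cC cD : Bool) : ℕ :=
  (if c23 then 8388608 else 0) + (if c0 then 1 else 0) + (if c1 then 2 else 0) + (if c2 then 4 else 0) +
    (if cA then 5243272 else 0) + (if cB then 786992 else 0) + (if cC then 116800 else 0) +
    (if cD then 2241536 else 0)

def cfunF (c23 c0 c1 c2 cA cB cC cD : Bool) (r : ℕ) : Bool :=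
  if r = 23 then c23 else if r = 0 then c0 else if r = 1 then c1 else if r = 2 then c2 else
    if r = 3 then cA else if r = 4 then cB else if r = 6 then cC else cD

theorem cmaskF_spec : ∀ (c23 c0 c1 c2 cA cB cC cD : Bool) (i : Fin 24),
    (cmaskF c23 c0 c1 c2 cA cB cC cD).testBit i = cfunF c23 c0 c1 c2 cA cB cC cD (fR i) := by decide

theorem fR_cases : ∀ i : Fin 24, fR i = 23 ∨ fR i = 0 ∨ fR i = 1 ∨ fR i = 2 ∨ fR i = 3 ∨ fR i = 4 ∨ fR i = 6 ∨
    fR i = 10 := by decide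

/-- the orbits of a group containing `f5` -/
theorem orbit_maskF (K : Subgroup (Equiv.Perm GolayPt)) (hf : f5 ∈ K) (q : GolayPt) :
    ∃ c23 c0 c1 c2 cA cB cC cD : Bool,
      (∀ p, p ∈ MulAction.orbit K q ↔ p ∈ fs (cmaskF c23 c0 c1 c2 cA cB cC cD)) ∧
      (pt 23 ∈ MulAction.orbit K q ↔ c23 = true) ∧ (pt 0 ∈ MulAction.orbit K q ↔ c0 = true) ∧
      (pt 1 ∈ MulAction.orbit K q ↔ c1 = true) ∧ (pt 2 ∈ MulAction.orbit K q ↔ c2 = true) := by
  classical
  have hrep := rep_iff (K := K) (q := q) fR (fun i => f5 ^ (f5jF i)) (fun i => K.pow_mem hf _) f5_dec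
  refine ⟨decide (pt 23 ∈ MulAction.orbit K q), decide (pt 0 ∈ MulAction.orbit K q),
    decide (pt 1 ∈ MulAction.orbit K q), decide (pt 2 ∈ MulAction.orbit K q),
    decide (pt 3 ∈ MulAction.orbit K q), decide (pt 4 ∈ MulAction.orbit K q),
    decide (pt 6 ∈ MulAction.orbit K q), decide (pt 10 ∈ MulAction.orbit K q), ?_, by simp, by simp, by simp,
    by simp⟩
  apply mem_iff_of_reps hrep (cfunF (decide (pt 23 ∈ MulAction.orbit K q)) (decide (pt 0 ∈ MulAction.orbit K q))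
    (decide (pt 1 ∈ MulAction.orbit K q)) (decide (pt 2 ∈ MulAction.orbit K q))
    (decide (pt 3 ∈ MulAction.orbit K q)) (decide (pt 4 ∈ MulAction.orbit K q))
    (decide (pt 6 ∈ MulAction.orbit K q)) (decide (pt 10 ∈ MulAction.orbit K q)))
  · intro i
    rcases fR_cases i with h | h | h | h | h | h | h | h <;> rw [h] <;> simp [cfunF]
  · intro i
    exact cmaskF_spec _ _ _ _ _ _ _ _ i

/-- the representatives of the orbits of `⟨f5, w3⟩` -/
def RW : List ℕ := [0, 0, 0, 3, 4, 4, 3, 3, 3, 4, 3, 3, 3, 3, 3, 3, 3, 3, 4, 4, 3, 3, 3, 23]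

def JW : List ℕ := [0, 0, 0, 0, 0, 1, 3, 3, 1, 3, 2, 1, 1, 4, 0, 2, 4, 0, 2, 4, 2, 3, 4, 0]

def EW : List ℕ := [0, 1, 2, 0, 0, 0, 2, 0, 0, 0, 1, 2, 1, 1, 2, 2, 2, 1, 0, 0, 0, 1, 0, 0]

theorem decompW : ∀ i : Fin 24, pt i = (f5 ^ (JW.getD i 0) * w3 ^ (EW.getD i 0)) (pt (RW.getD i 0)) := by decide

def fwR (i : ℕ) : ℕ := RW.getD i 0

/-- the union of the orbits of `⟨f5, w3⟩` indicated -/
def cmaskFW (c23 c0 c4 c3 : Bool) : ℕ :=
  (if c23 then 8388608 else 0) + (if c0 then 7 else 0) + (if c4 then 786992 else 0) +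
    (if c3 then 7601608 else 0)

def cfunFW (c23 c0 c4 c3 : Bool) (r : ℕ) : Bool :=
  if r = 23 then c23 else if r = 0 then c0 else if r = 4 then c4 else c3

theorem cmaskFW_spec : ∀ (c23 c0 c4 c3 : Bool) (i : Fin 24),
    (cmaskFW c23 c0 c4 c3).testBit i = cfunFW c23 c0 c4 c3 (fwR i) := by decide

theorem fwR_cases : ∀ i : Fin 24, fwR i = 23 ∨ fwR i = 0 ∨ fwR i = 4 ∨ fwR i = 3 := by decide

/-- the orbits of a group containing `f5` and `w3` -/
theorem orbit_maskFW (K : Subgroup (Equiv.Perm GolayPt)) (hf : f5 ∈ K) (hw : w3 ∈ K) (q : GolayPt) :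
    ∃ c23 c0 c4 c3 : Bool, (∀ p, p ∈ MulAction.orbit K q ↔ p ∈ fs (cmaskFW c23 c0 c4 c3)) ∧
      (pt 23 ∈ MulAction.orbit K q ↔ c23 = true) ∧ (pt 0 ∈ MulAction.orbit K q ↔ c0 = true) ∧
      (pt 4 ∈ MulAction.orbit K q ↔ c4 = true) ∧ (pt 3 ∈ MulAction.orbit K q ↔ c3 = true) := by
  classical
  have hrep := rep_iff (K := K) (q := q) fwR (fun i => f5 ^ (JW.getD i 0) * w3 ^ (EW.getD i 0))
    (fun i => K.mul_mem (K.pow_mem hf _) (K.pow_mem hw _)) decompW
  refine ⟨decide (pt 23 ∈ MulAction.orbit K q), decide (pt 0 ∈ MulAction.orbit K q),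
    decide (pt 4 ∈ MulAction.orbit K q), decide (pt 3 ∈ MulAction.orbit K q), ?_, by simp, by simp, by simp,
    by simp⟩
  apply mem_iff_of_reps hrep (cfunFW (decide (pt 23 ∈ MulAction.orbit K q)) (decide (pt 0 ∈ MulAction.orbit K q))
    (decide (pt 4 ∈ MulAction.orbit K q)) (decide (pt 3 ∈ MulAction.orbit K q)))
  · intro i
    rcases fwR_cases i with h | h | h | h <;> rw [h] <;> simp [cfunFW]
  · intro i
    exact cmaskFW_spec _ _ _ _ i

/-- a group fixing `∞`: the orbits of the other points do not contain `∞` -/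
theorem pt23_not_mem_orbit {P : Subgroup (Equiv.Perm GolayPt)} (hP : P ≤ G1) {q : GolayPt} (hq : q ≠ pt 23) :
    pt 23 ∉ MulAction.orbit P q := by
  intro h
  obtain ⟨g, hg, hgq⟩ := mem_orbit_sub.1 h
  have h23 : g (pt 23) = pt 23 := (mem_G1.1 (hP hg)).2
  exact hq (g.injective (hgq.trans h23.symm))

end Cfsg.Agent.Lib.Helper8.M24Idx
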