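import Cfsg.Agent.Lib.Helper8.M24Idx.PartC3

/-!
# Subgroups of index 1771 in `M24`: the normaliser of `⟨f5⟩` in the point stabiliser, and the case of order 10

`P` is a subgroup of order 5760 of the stabiliser of `∞` containing `f5`.  The normaliser of `⟨f5⟩` in `P` has order 10
or 60.  If it has order 10 and `P` is the stabiliser of `∞` in a transitive group `K` whose point stabilisers have
order 5760, we reach a contradiction.
-/

set_option autoImplicit false

namespace Cfsg.Agent.Lib.Helper8.M24Idx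

open Cfsg Cfsg.Agent.Lib.Helper6.Golay Cfsg.Agent.Lib.Helper6.PermChain Cfsg.Agent.Lib.Helper8.M22Idx
  Cfsg.Agent.Lib.Helper8.M23Idx Cfsg.Agent.Lib.Helper8.M24Search
open scoped Pointwise

/-- the normaliser of `⟨f5⟩` in a subgroup -/
def normF (P : Subgroup (Equiv.Perm GolayPt)) : Subgroup (Equiv.Perm GolayPt) :=
  P ⊓ Subgroup.normalizer ((Subgroup.zpowers f5 : Subgroup (Equiv.Perm GolayPt)) : Set (Equiv.Perm GolayPt))

theorem normF_subset_SF {P : Subgroup (Equiv.Perm GolayPt)} (hP : P ≤ G1) :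
    (normF P : Set (Equiv.Perm GolayPt)) ⊆ SF := by
  intro g hg
  obtain ⟨h1, h2⟩ := Subgroup.mem_inf.1 hg
  obtain ⟨h3, h4⟩ := mem_G1.1 (hP h1)
  exact ⟨h3, h4, (Subgroup.mem_normalizer_iff.1 h2 f5).1 (Subgroup.mem_zpowers f5)⟩

theorem f5_mem_normF {P : Subgroup (Equiv.Perm GolayPt)} (hf : f5 ∈ P) : f5 ∈ normF P := by
  refine Subgroup.mem_inf.2 ⟨hf, ?_⟩
  apply mem_normalizer_zpowers
  · rw [mul_inv_cancel_right]; exact Subgroup.mem_zpowers f5
  · rw [inv_mul_cancel, one_mul]; exact Subgroup.mem_zpowers f5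

/-- the normaliser has order 10 or 60 -/
theorem card_normF (P : Subgroup (Equiv.Perm GolayPt)) (hP : P ≤ G1) (hf : f5 ∈ P)
    (hcard : Nat.card P = 5760) : Nat.card (normF P) = 10 ∨ Nat.card (normF P) = 60 := by
  have : Fact (Nat.Prime 5) := ⟨by norm_num⟩
  obtain ⟨n, hn, hmod⟩ := sylow_count_normalizer P f5 hf 5 orderOf_f5 (by rw [hcard]; norm_num)
  have hle : Nat.card (normF P) ≤ 60 := by
    have hc : Nat.card (normF P) = (normF P : Set (Equiv.Perm GolayPt)).ncard := Nat.card_coe_set_eq _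
    rw [hc]
    exact (Set.ncard_le_ncard (normF_subset_SF hP) (Set.toFinite _)).trans ncard_SF_le
  have h5 : 5 ∣ Nat.card (normF P) := by
    have := orderOf_dvd_natCard (⟨f5, f5_mem_normF hf⟩ : normF P)
    rwa [Subgroup.orderOf_mk, orderOf_f5] at this
  obtain ⟨c, hc⟩ := h5
  have hmod' : n % 5 = 1 := hmod
  have hn' : 5760 = Nat.card (normF P) * n := by rw [← hcard]; exact hn
  rw [hc] at hn' hle ⊢
  have hcle : c ≤ 12 := by omega
  have hcpos : 0 < c := by
    rcases Nat.eq_zero_or_pos c with h | h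
    · subst h; simp at hn'
    · exact h
  interval_cases c <;> omega

/-- if the normaliser has order 10, its elements fix the points `0`, `1`, `2` -/
theorem fix_of_normF10 {P : Subgroup (Equiv.Perm GolayPt)} (hP : P ≤ G1) (hN : Nat.card (normF P) = 10)
    {g : Equiv.Perm GolayPt} (hg : g ∈ normF P) : g (pt 0) = pt 0 ∧ g (pt 1) = pt 1 ∧ g (pt 2) = pt 2 := by
  have h10 : g ^ 10 = 1 := by
    have h := pow_card_eq_one' (G := normF P) (x := ⟨g, hg⟩)
    rw [hN] at h
    exact congrArg Subtype.val h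
  exact fix_of_mem_SF_of_pow (normF_subset_SF hP hg) h10

/-- in that case the orbits of the points `0`, `1`, `2` have length 1, 6 or 16 -/
theorem card_orbit_of_normF10 {P : Subgroup (Equiv.Perm GolayPt)} (hP : P ≤ G1) (hf : f5 ∈ P)
    (hcard : Nat.card P = 5760) (hN : Nat.card (normF P) = 10) {y : GolayPt}
    (hy : y = pt 0 ∨ y = pt 1 ∨ y = pt 2) :
    Nat.card (MulAction.orbit P y) = 1 ∨ Nat.card (MulAction.orbit P y) = 6 ∨
      Nat.card (MulAction.orbit P y) = 16 := by
  have : Fact (Nat.Prime 5) := ⟨by norm_num⟩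
  have hfy : f5 y = y := by
    rcases hy with rfl | rfl | rfl
    · exact f5_fix0
    · exact f5_fix1
    · exact f5_fix2
  have hmul := card_orbit_mul_card_ptStab P y
  rw [hcard] at hmul
  have h25 : ¬ 5 ^ 2 ∣ Nat.card (ptStab P y) := by
    intro h
    have : 5 ^ 2 ∣ 5760 := by
      rw [← hmul]
      exact h.mul_left _
    norm_num at this
  obtain ⟨n, hn, hmod⟩ := sylow_count_normalizer (ptStab P y) f5 (mem_ptStab.2 ⟨hf, hfy⟩) 5 orderOf_f5 h25
  have heq : normF (ptStab P y) = normF P := by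
    apply le_antisymm
    · exact inf_le_inf_right _ (ptStab_le P y)
    · intro g hg
      refine Subgroup.mem_inf.2 ⟨mem_ptStab.2 ⟨(Subgroup.mem_inf.1 hg).1, ?_⟩, (Subgroup.mem_inf.1 hg).2⟩
      obtain ⟨h0, h1, h2⟩ := fix_of_normF10 hP hN hg
      rcases hy with rfl | rfl | rfl
      · exact h0
      · exact h1
      · exact h2
  have hn' : Nat.card (ptStab P y) = 10 * n := by
    rw [hn]
    show Nat.card (normF (ptStab P y)) * n = 10 * n
    rw [heq, hN]
  have hmod' : n % 5 = 1 := hmod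
  rw [hn'] at hmul
  have hle := card_orbit_le P y
  have hpos := card_orbit_pos P y
  set a := Nat.card (MulAction.orbit P y) with ha
  interval_cases a <;> omega

/-- a group of order 5760 in the stabiliser of `∞` does not preserve a set of five other points -/
theorem no_preserved_five (P : Subgroup (Equiv.Perm GolayPt)) (hP : P ≤ G1) (hcard : Nat.card P = 5760)
    (B : Finset GolayPt) (hB : B.card = 5) (h23 : pt 23 ∉ B) (hpres : ∀ g ∈ P, g • B = B) : False := by
  obtain ⟨Y, hYle, hYfix, hYcard⟩ := exists_fix_of_preserves 5 P B hB hpres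
  have hle : Y ≤ fixL M24 (B.toList ++ [pt 23]) := by
    intro g hg
    rw [mem_fixL]
    obtain ⟨h1, h2⟩ := mem_G1.1 (hP (hYle hg))
    refine ⟨h1, ?_⟩
    intro x hx
    rw [List.mem_append, List.mem_singleton] at hx
    rcases hx with hx | rfl
    · exact hYfix g hg x (Finset.mem_toList.1 hx)
    · exact h2
  have h16 := card_fixL_append_le B.toList (Finset.nodup_toList B) (by rw [Finset.length_toList, hB]) (pt 23)
    (by rw [Finset.mem_toList]; exact h23)
  have := (Subgroup.card_le_of_le hle).trans h16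
  rw [hcard] at hYcard
  have h120 : Nat.factorial 5 = 120 := by decide
  rw [h120] at hYcard
  omega

/-! ### the case of order 10 -/

section bad

variable {K : Subgroup (Equiv.Perm GolayPt)}

/-- three different points among `0`, `1`, `2` are all of them -/
theorem three_pts {y0 y1 y2 : GolayPt} (h0 : y0 = pt 0 ∨ y0 = pt 1 ∨ y0 = pt 2)
    (h1 : y1 = pt 0 ∨ y1 = pt 1 ∨ y1 = pt 2) (h2 : y2 = pt 0 ∨ y2 = pt 1 ∨ y2 = pt 2)
    (h01 : y0 ≠ y1) (h02 : y0 ≠ y2) (h12 : y1 ≠ y2) {g : Equiv.Perm GolayPt}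
    (g0 : g y0 = y0) (g1 : g y1 = y1) (g2 : g y2 = y2) :
    g (pt 0) = pt 0 ∧ g (pt 1) = pt 1 ∧ g (pt 2) = pt 2 := by
  rcases h0 with rfl | rfl | rfl <;> rcases h1 with rfl | rfl | rfl <;> rcases h2 with rfl | rfl | rfl <;>
    first
    | exact absurd rfl h01
    | exact absurd rfl h02
    | exact absurd rfl h12
    | exact ⟨g0, g1, g2⟩
    | exact ⟨g0, g2, g1⟩
    | exact ⟨g1, g0, g2⟩
    | exact ⟨g1, g2, g0⟩
    | exact ⟨g2, g0, g1⟩
    | exact ⟨g2, g1, g0⟩

/-- if the point stabiliser fixes one of the points `0`, `1`, `2` we reach a contradiction -/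
theorem bad_fix (hK : K ≤ M24) (hstab : ∀ p, Nat.card (ptStab K p) = 5760)
    (htrans : ∀ p, ∃ g ∈ K, g (pt 23) = p) (hf : f5 ∈ ptStab K (pt 23))
    (hN : Nat.card (normF (ptStab K (pt 23))) = 10) {y0 : GolayPt} (hy0 : y0 = pt 0 ∨ y0 = pt 1 ∨ y0 = pt 2)
    (hfix0 : ∀ g ∈ ptStab K (pt 23), g y0 = y0) : False := by
  set P := ptStab K (pt 23) with hPdef
  have hPle : P ≤ G1 := ptStab_le_fixL hK (pt 23)
  have hPcard : Nat.card P = 5760 := hstab (pt 23)
  have hfK : f5 ∈ K := (mem_ptStab.1 hf).1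
  have hfy0 : f5 y0 = y0 := by
    rcases hy0 with rfl | rfl | rfl
    · exact f5_fix0
    · exact f5_fix1
    · exact f5_fix2
  have hy0ne : y0 ≠ pt 23 := by
    rcases hy0 with rfl | rfl | rfl <;> decide
  -- some point is not fixed
  by_cases hall : ∀ y, (y = pt 0 ∨ y = pt 1 ∨ y = pt 2) → ∀ g ∈ P, g y = y
  · have hle : P ≤ QT := by
      intro g hg
      obtain ⟨h1, h2⟩ := mem_G1.1 (hPle hg)
      exact mem_QT.2 ⟨h1, h2, hall _ (Or.inl rfl) g hg, hall _ (Or.inr (Or.inl rfl)) g hg,
        hall _ (Or.inr (Or.inr rfl)) g hg⟩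
    have := Subgroup.card_le_of_le hle
    rw [hPcard, card_QT] at this
    omega
  have hall' : ∃ y, (y = pt 0 ∨ y = pt 1 ∨ y = pt 2) ∧ ¬ ∀ g ∈ P, g y = y := by
    by_contra hne
    apply hall
    intro y hy
    by_contra hg
    exact hne ⟨y, hy, hg⟩
  obtain ⟨y1, hy1, hnfix1⟩ := hall'
  have hfy1 : f5 y1 = y1 := by
    rcases hy1 with rfl | rfl | rfl
    · exact f5_fix0
    · exact f5_fix1
    · exact f5_fix2
  obtain ⟨g0, hg0K, hg0y⟩ := htrans y1
  obtain ⟨g, hgK, hgn, hgy⟩ := exists_norm_map hfK hfy1 (by rw [hstab]; norm_num) hg0K hg0y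
  have hginv : g⁻¹ y1 = pt 23 := by rw [Equiv.Perm.inv_eq_iff_eq, hgy]
  -- the stabiliser of `y1` fixes the image of `y0`
  have hstar : ∀ k ∈ ptStab K y1, k (g y0) = g y0 := by
    intro k hk
    obtain ⟨hkK, hky⟩ := mem_ptStab.1 hk
    have hmem : g⁻¹ * k * g ∈ P := by
      refine mem_ptStab.2 ⟨K.mul_mem (K.mul_mem (K.inv_mem hgK) hkK) hgK, ?_⟩
      show g⁻¹ (k (g (pt 23))) = pt 23
      rw [hgy, hky, hginv]
    have h1 := hfix0 _ hmem
    have h2 : g⁻¹ (k (g y0)) = y0 := h1
    rw [Equiv.Perm.inv_eq_iff_eq] at h2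
    exact h2
  have hstar_ne : g y0 ≠ y1 := by
    intro h
    rw [← hgy] at h
    exact hy0ne (g.injective h)
  have hstar_mem := image_fix_of_norm hgn hfy0
  -- the stabilisers of `y1` and of the image of `y0` coincide
  have hKeq : ptStab K y1 = ptStab K (g y0) := by
    apply Subgroup.eq_of_le_of_card_ge
    · intro k hk
      exact mem_ptStab.2 ⟨(mem_ptStab.1 hk).1, hstar k hk⟩
    · rw [hstab, hstab]
  by_cases hfixs : ∀ h ∈ P, h (g y0) = g y0
  · -- then `P` fixes `y1`
    have hPeq : P = ptStab K (g y0) := by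
      apply Subgroup.eq_of_le_of_card_ge
      · intro h hh
        exact mem_ptStab.2 ⟨(mem_ptStab.1 hh).1, hfixs h hh⟩
      · rw [hstab, hPcard]
    apply hnfix1
    intro h hh
    rw [hPeq, ← hKeq] at hh
    exact (mem_ptStab.1 hh).2
  -- the image of `y0` is the third point
  have hstar012 : g y0 = pt 0 ∨ g y0 = pt 1 ∨ g y0 = pt 2 := by
    rcases hstar_mem with h | h | h | h
    · exact Or.inl h
    · exact Or.inr (Or.inl h)
    · exact Or.inr (Or.inr h)
    · exfalso
      apply hfixs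
      intro h' hh'
      rw [h]
      exact (mem_ptStab.1 hh').2
  have hstar_ne0 : y0 ≠ g y0 := by
    intro h
    apply hfixs
    intro h' hh'
    rw [← h]
    exact hfix0 h' hh'
  have hy01 : y0 ≠ y1 := by
    intro h
    apply hnfix1
    rw [← h]
    exact hfix0
  -- the stabiliser of `y1` in `P` is `QT`
  have hP1le : ptStab P y1 ≤ QT := by
    intro h hh
    obtain ⟨hhP, hhy⟩ := mem_ptStab.1 hh
    obtain ⟨h1, h2⟩ := mem_G1.1 (hPle hhP)
    have hhs : h (g y0) = g y0 := by
      have : h ∈ ptStab K y1 := mem_ptStab.2 ⟨(mem_ptStab.1 hhP).1, hhy⟩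
      exact hstar h this
    obtain ⟨e0, e1, e2⟩ := three_pts hy0 hy1 hstar012 hy01 hstar_ne0 hstar_ne.symm (hfix0 h hhP) hhy hhs
    exact mem_QT.2 ⟨h1, h2, e0, e1, e2⟩
  have hmul := card_orbit_mul_card_ptStab P y1
  rw [hPcard] at hmul
  have hdvd := Subgroup.card_dvd_of_le hP1le
  rw [card_QT] at hdvd
  have horb := card_orbit_of_normF10 hPle hf hPcard hN hy1
  have hne1 : Nat.card (MulAction.orbit P y1) ≠ 1 := by
    intro h1
    rw [h1, one_mul] at hmul
    apply hnfix1
    have hPeq : ptStab P y1 = P := by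
      apply Subgroup.eq_of_le_of_card_ge (ptStab_le P y1)
      rw [hmul, hPcard]
    intro h hh
    rw [← hPeq] at hh
    exact (mem_ptStab.1 hh).2
  have h6 : Nat.card (MulAction.orbit P y1) = 6 ∧ Nat.card (ptStab P y1) = 960 := by
    rcases horb with h | h | h
    · exact absurd h hne1
    · rw [h] at hmul
      exact ⟨h, by omega⟩
    · exfalso
      rw [h] at hmul
      have h360 : Nat.card (ptStab P y1) = 360 := by omega
      rw [h360] at hdvd
      norm_num at hdvd
  have hQle : QT ≤ P := by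
    have hQeq : ptStab P y1 = QT := by
      apply Subgroup.eq_of_le_of_card_ge hP1le
      rw [h6.2, card_QT]
    rw [← hQeq]
    exact ptStab_le P y1
  -- a point of the orbit outside the tetrad
  have hex : ∃ q ∈ MulAction.orbit P y1, q ∉ (↑({pt 23, pt 0, pt 1, pt 2} : Finset GolayPt) : Set GolayPt) := by
    have hlt : (↑({pt 23, pt 0, pt 1, pt 2} : Finset GolayPt) : Set GolayPt).ncard <
        (MulAction.orbit P y1).ncard := by
      rw [Set.ncard_coe_finset, ← Nat.card_coe_set_eq, h6.1]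
      decide
    exact Set.exists_mem_notMem_of_ncard_lt_ncard hlt (Set.toFinite _)
  obtain ⟨q, hqo, hqT⟩ := hex
  have hqT' : q ∉ [pt 23, pt 0, pt 1, pt 2] := by
    intro h
    apply hqT
    rw [Finset.mem_coe]
    simpa using h
  have hsub : (↑((Finset.univ : Finset GolayPt) \ {pt 23, pt 0, pt 1, pt 2}) : Set GolayPt) ⊆
      MulAction.orbit P y1 := by
    intro q' hq'
    rw [Finset.mem_coe, Finset.mem_sdiff] at hq'
    have hq'T : q' ∉ [pt 23, pt 0, pt 1, pt 2] := by
      intro h
      apply hq'.2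
      simpa using h
    obtain ⟨h, hh, hhq⟩ := QT_trans hqT' hq'T
    rw [← hhq]
    exact (orbit_inv (hQle hh) q).2 hqo
  have hcard20 := Set.ncard_le_ncard hsub (Set.toFinite _)
  rw [Set.ncard_coe_finset, ← Nat.card_coe_set_eq, h6.1] at hcard20
  revert hcard20
  decide

/-- the points outside three sets and `∞` -/
def restMask (m0 m1 m2 : ℕ) : ℕ := 8388607 - m0 - m1 - m2

/-- the combinatorics of three disjoint orbits of lengths 6 or 16 -/
theorem three_orbits : ∀ (a1 a2 a3 a4 b1 b2 b3 b4 c1 c2 c3 c4 : Bool),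
    (pc 24 (cmaskF false true false false a1 a2 a3 a4) = 6 ∨
      pc 24 (cmaskF false true false false a1 a2 a3 a4) = 16) →
    (pc 24 (cmaskF false false true false b1 b2 b3 b4) = 6 ∨
      pc 24 (cmaskF false false true false b1 b2 b3 b4) = 16) →
    (pc 24 (cmaskF false false false true c1 c2 c3 c4) = 6 ∨
      pc 24 (cmaskF false false false true c1 c2 c3 c4) = 16) →
    (∀ i : Fin 24, ¬ ((cmaskF false true false false a1 a2 a3 a4).testBit i = true ∧
      (cmaskF false false true false b1 b2 b3 b4).testBit i = true)) →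
    (∀ i : Fin 24, ¬ ((cmaskF false true false false a1 a2 a3 a4).testBit i = true ∧
      (cmaskF false false false true c1 c2 c3 c4).testBit i = true)) →
    (∀ i : Fin 24, ¬ ((cmaskF false false true false b1 b2 b3 b4).testBit i = true ∧
      (cmaskF false false false true c1 c2 c3 c4).testBit i = true)) →
    restMask (cmaskF false true false false a1 a2 a3 a4) (cmaskF false false true false b1 b2 b3 b4)
      (cmaskF false false false true c1 c2 c3 c4) ∈ [5243272, 786992, 116800, 2241536] ∧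
    ∀ i : Fin 24, Nat.testBit (restMask (cmaskF false true false false a1 a2 a3 a4)
      (cmaskF false false true false b1 b2 b3 b4) (cmaskF false false false true c1 c2 c3 c4)) i =
      !(decide ((i : ℕ) = 23) || (cmaskF false true false false a1 a2 a3 a4).testBit i ||
        (cmaskF false false true false b1 b2 b3 b4).testBit i ||
        (cmaskF false false false true c1 c2 c3 c4).testBit i) := by
  decide +kernel

/-- an orbit of length 6 or 16 of a point `0`, `1`, `2` contains no other of these points -/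
theorem orbit_one_fix : ∀ (c0 c1 c2 cA cB cC cD : Bool),
    (pc 24 (cmaskF false c0 c1 c2 cA cB cC cD) = 6 ∨ pc 24 (cmaskF false c0 c1 c2 cA cB cC cD) = 16) →
    (c0 = true ∧ c1 = false ∧ c2 = false) ∨ (c0 = false ∧ c1 = true ∧ c2 = false) ∨
      (c0 = false ∧ c1 = false ∧ c2 = true) := by decide

theorem card5_of_mem : ∀ c ∈ [5243272, 786992, 116800, 2241536], pc 24 c = 5 := by decide

/-- if the point stabiliser fixes none of the points `0`, `1`, `2` we reach a contradiction -/
theorem bad_nofix {P : Subgroup (Equiv.Perm GolayPt)} (hPle : P ≤ G1) (hPcard : Nat.card P = 5760) (hf : f5 ∈ P)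
    (hN : Nat.card (normF P) = 10)
    (hnofix : ∀ y, (y = pt 0 ∨ y = pt 1 ∨ y = pt 2) → Nat.card (MulAction.orbit P y) ≠ 1) : False := by
  have horb : ∀ y, (y = pt 0 ∨ y = pt 1 ∨ y = pt 2) →
      Nat.card (MulAction.orbit P y) = 6 ∨ Nat.card (MulAction.orbit P y) = 16 := by
    intro y hy
    rcases card_orbit_of_normF10 hPle hf hPcard hN hy with h | h | h
    · exact absurd h (hnofix y hy)
    · exact Or.inl h
    · exact Or.inr h
  -- the three orbits
  obtain ⟨a23, a0, a1', a2', a1, a2, a3, a4, hA, hA23, hA0, hA1, hA2⟩ := orbit_maskF P hf (pt 0)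
  obtain ⟨b23, b0', b1', b2', b1, b2, b3, b4, hB, hB23, hB0, hB1, hB2⟩ := orbit_maskF P hf (pt 1)
  obtain ⟨c23, c0', c1', c2', c1, c2, c3, c4, hC, hC23, hC0, hC1, hC2⟩ := orbit_maskF P hf (pt 2)
  have ea23 : a23 = false := by
    rw [← Bool.not_eq_true, ← hA23]; exact pt23_not_mem_orbit hPle (by decide)
  have eb23 : b23 = false := by
    rw [← Bool.not_eq_true, ← hB23]; exact pt23_not_mem_orbit hPle (by decide)
  have ec23 : c23 = false := by
    rw [← Bool.not_eq_true, ← hC23]; exact pt23_not_mem_orbit hPle (by decide)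
  subst ea23 eb23 ec23
  have ea0 : a0 = true := hA0.1 (MulAction.mem_orbit_self _)
  have eb1 : b1' = true := hB1.1 (MulAction.mem_orbit_self _)
  have ec2 : c2' = true := hC2.1 (MulAction.mem_orbit_self _)
  have sA := card_orbit_of_mask hA
  have sB := card_orbit_of_mask hB
  have sC := card_orbit_of_mask hC
  have oA := horb (pt 0) (Or.inl rfl)
  have oB := horb (pt 1) (Or.inr (Or.inl rfl))
  have oC := horb (pt 2) (Or.inr (Or.inr rfl))
  rw [sA] at oA
  rw [sB] at oB
  rw [sC] at oC
  have fA := orbit_one_fix _ _ _ _ _ _ _ oA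
  have fB := orbit_one_fix _ _ _ _ _ _ _ oB
  have fC := orbit_one_fix _ _ _ _ _ _ _ oC
  have ea : a1' = false ∧ a2' = false := by
    rcases fA with h | h | h
    · exact ⟨h.2.1, h.2.2⟩
    · rw [ea0] at h; exact absurd h.1 (by decide)
    · rw [ea0] at h; exact absurd h.1 (by decide)
  have eb : b0' = false ∧ b2' = false := by
    rcases fB with h | h | h
    · rw [eb1] at h; exact absurd h.2.1 (by decide)
    · exact ⟨h.1, h.2.2⟩
    · rw [eb1] at h; exact absurd h.2.1 (by decide)
  have ec : c0' = false ∧ c1' = false := by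
    rcases fC with h | h | h
    · rw [ec2] at h; exact absurd h.2.2 (by decide)
    · rw [ec2] at h; exact absurd h.2.2 (by decide)
    · exact ⟨h.1, h.2.1⟩
  obtain ⟨ea1, ea2⟩ := ea
  obtain ⟨eb0, eb2⟩ := eb
  obtain ⟨ec0, ec1⟩ := ec
  subst ea0 eb1 ec2 ea1 ea2 eb0 eb2 ec0 ec1
  -- the orbits are disjoint
  have hdisj : ∀ {x y : GolayPt} {mx my : ℕ}, (∀ p, p ∈ MulAction.orbit P x ↔ p ∈ fs mx) →
      (∀ p, p ∈ MulAction.orbit P y ↔ p ∈ fs my) → y ∉ MulAction.orbit P x →
      ∀ i : Fin 24, ¬ (mx.testBit i = true ∧ my.testBit i = true) := by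
    intro x y mx my hx hy hyx i hi
    apply hyx
    have h1 : pt i ∈ MulAction.orbit P x := by
      rw [hx, mem_fs, idx_pt _ i.2]; exact hi.1
    have h2 : pt i ∈ MulAction.orbit P y := by
      rw [hy, mem_fs, idx_pt _ i.2]; exact hi.2
    have e1 : MulAction.orbit P (pt i) = MulAction.orbit P x := MulAction.orbit_eq_iff.2 h1
    have e2 : MulAction.orbit P (pt i) = MulAction.orbit P y := MulAction.orbit_eq_iff.2 h2
    rw [← e1, e2]
    exact MulAction.mem_orbit_self y
  have n01 : pt 1 ∉ MulAction.orbit P (pt 0) := by rw [hA1]; decide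
  have n02 : pt 2 ∉ MulAction.orbit P (pt 0) := by rw [hA2]; decide
  have n12 : pt 2 ∉ MulAction.orbit P (pt 1) := by rw [hB2]; decide
  obtain ⟨hc, hcbit⟩ := three_orbits a1 a2 a3 a4 b1 b2 b3 b4 c1 c2 c3 c4 oA oB oC (hdisj hA hB n01)
    (hdisj hA hC n02) (hdisj hB hC n12)
  set c := restMask (cmaskF false true false false a1 a2 a3 a4) (cmaskF false false true false b1 b2 b3 b4)
    (cmaskF false false false true c1 c2 c3 c4) with hcdef
  -- the remaining five points
  have hchar : ∀ p, p ∈ fs c ↔ p ≠ pt 23 ∧ p ∉ MulAction.orbit P (pt 0) ∧ p ∉ MulAction.orbit P (pt 1) ∧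
      p ∉ MulAction.orbit P (pt 2) := by
    intro p
    rw [mem_fs, hA, hB, hC, mem_fs, mem_fs, mem_fs]
    have h := hcbit ⟨idx p, idx_lt p⟩
    simp only [] at h
    rw [h]
    have h23 : (idx p = 23) ↔ p = pt 23 := by
      constructor
      · intro h; exact eq_pt_of_idx h
      · intro h; rw [h]; decide
    simp only [Bool.not_eq_true', Bool.or_eq_false_iff, decide_eq_false_iff_not, h23, Bool.not_eq_true,
      and_assoc, ne_eq]
  have hpres : ∀ g ∈ P, g • fs c = fs c := by
    intro g hg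
    apply Finset.eq_of_subset_of_card_le
    · intro p hp
      obtain ⟨r, hr, rfl⟩ := Finset.mem_smul_finset.1 hp
      rw [hchar] at hr ⊢
      have h23 : g (pt 23) = pt 23 := (mem_G1.1 (hPle hg)).2
      refine ⟨?_, ?_, ?_, ?_⟩
      · intro h
        apply hr.1
        apply g.injective
        rw [h23]
        exact h
      · intro h; exact hr.2.1 ((orbit_inv hg r).1 h)
      · intro h; exact hr.2.2.1 ((orbit_inv hg r).1 h)
      · intro h; exact hr.2.2.2 ((orbit_inv hg r).1 h)
    · rw [Finset.card_smul_finset]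
  refine no_preserved_five P hPle hPcard (fs c) ?_ ?_ hpres
  · rw [card_fs]
    exact card5_of_mem c hc
  · intro h
    exact ((hchar _).1 h).1 rfl

/-- **the normaliser cannot have order 10** -/
theorem bad_case (hK : K ≤ M24) (hstab : ∀ p, Nat.card (ptStab K p) = 5760)
    (htrans : ∀ p, ∃ g ∈ K, g (pt 23) = p) (hf : f5 ∈ ptStab K (pt 23))
    (hN : Nat.card (normF (ptStab K (pt 23))) = 10) : False := by
  have hPle : ptStab K (pt 23) ≤ G1 := ptStab_le_fixL hK (pt 23)
  have hPcard : Nat.card (ptStab K (pt 23)) = 5760 := hstab (pt 23)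
  by_cases hfix : ∃ y, (y = pt 0 ∨ y = pt 1 ∨ y = pt 2) ∧ Nat.card (MulAction.orbit (ptStab K (pt 23)) y) = 1
  · obtain ⟨y, hy, h1⟩ := hfix
    apply bad_fix hK hstab htrans hf hN hy
    -- an orbit of length one
    have hmul := card_orbit_mul_card_ptStab (ptStab K (pt 23)) y
    rw [h1, one_mul] at hmul
    have hPeq : ptStab (ptStab K (pt 23)) y = ptStab K (pt 23) :=
      Subgroup.eq_of_le_of_card_ge (ptStab_le _ y) (by rw [hmul])
    intro g hg
    rw [← hPeq] at hg
    exact (mem_ptStab.1 hg).2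
  · apply bad_nofix hPle hPcard hf hN
    intro y hy h1
    exact hfix ⟨y, hy, h1⟩

end bad

end Cfsg.Agent.Lib.Helper8.M24Idx
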