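import Cfsg.Agent.Lib.Helper8.M24Idx.PartC4

/-!
# Subgroups of index 1771 in `M24`

A subgroup of order 138240 of `M24` is the stabiliser of a sextet.
-/

set_option autoImplicit false

namespace Cfsg.Agent.Lib.Helper8.M24Idx

open Cfsg Cfsg.Agent.Lib.Helper6.Golay Cfsg.Agent.Lib.Helper6.PermChain Cfsg.Agent.Lib.Helper8.M22Idx
  Cfsg.Agent.Lib.Helper8.M23Idx Cfsg.Agent.Lib.Helper8.M24Search
open scoped Pointwise

/-- the octad formed by `0`, `1`, `2` and the cycle of `f5` fixed by `w3` -/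
def o1 : Finset GolayPt := fs 786999

theorem o1_mem : o1 ∈ octads := fs_mem_octads (by decide +kernel) (by decide +kernel)

theorem e1_smul_o1 : e1 • o1 = o1 := by
  rw [o1, smul_fs (by decide) e1_coe]
  decide

theorem card_stab_o1 :
    Nat.card (M24 ⊓ MulAction.stabilizer (Equiv.Perm GolayPt) o1 : Subgroup (Equiv.Perm GolayPt)) = 322560 := by
  rw [← map_subtype_stabilizer, Subgroup.card_map_of_injective M24.subtype_injective]
  exact card_stabilizer_octad o1_mem

theorem maskFW_o1 : ∀ c3 : Bool, (pt 13 ∈ fs (cmaskFW true false false c3)) → c3 = true := by decide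

/-- a group of order 5760 in the stabiliser of `∞` containing `f5` and `w3` does not preserve the octad `o1` -/
theorem no_preserved_o1 (P : Subgroup (Equiv.Perm GolayPt)) (hP : P ≤ G1) (hcard : Nat.card P = 5760)
    (hf : f5 ∈ P) (hw : w3 ∈ P) (hpres : ∀ g ∈ P, g • o1 = o1) : False := by
  set D : Subgroup (Equiv.Perm GolayPt) := M24 ⊓ MulAction.stabilizer (Equiv.Perm GolayPt) o1 with hD
  have hPD : P ≤ D := by
    intro g hg
    exact Subgroup.mem_inf.2 ⟨(mem_G1.1 (hP hg)).1, MulAction.mem_stabilizer_iff.2 (hpres g hg)⟩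
  have he : e1 ∈ D := Subgroup.mem_inf.2 ⟨e1_mem, MulAction.mem_stabilizer_iff.2 e1_smul_o1⟩
  obtain ⟨c23, c0, c4, c3, horb, h23, h0, h4, h3⟩ := orbit_maskFW D (hPD hf) (hPD hw) (pt 23)
  have e23 : c23 = true := h23.1 (MulAction.mem_orbit_self _)
  -- the orbit does not meet the octad
  have hout : ∀ q ∈ o1, q ∉ MulAction.orbit D (pt 23) := by
    intro q hq h
    obtain ⟨g, hg, hgq⟩ := mem_orbit_sub.1 h
    have hgo : g • o1 = o1 := MulAction.mem_stabilizer_iff.1 (Subgroup.mem_inf.1 hg).2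
    have h1 : g (pt 23) ∈ g • o1 := by rw [hgo, hgq]; exact hq
    obtain ⟨r, hr, hrq⟩ := Finset.mem_smul_finset.1 h1
    have : r = pt 23 := g.injective hrq
    rw [this] at hr
    revert hr
    decide
  have e0 : c0 = false := by
    rw [← Bool.not_eq_true, ← h0]
    exact hout _ (by decide)
  have e4 : c4 = false := by
    rw [← Bool.not_eq_true, ← h4]
    exact hout _ (by decide)
  subst e23 e0 e4
  have h13 : pt 13 ∈ MulAction.orbit D (pt 23) := mem_orbit_sub.2 ⟨e1, he, by decide⟩
  rw [horb] at h13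
  have e3 := maskFW_o1 c3 h13
  subst e3
  have hm := card_orbit_of_mask horb
  have hmul := card_orbit_mul_card_ptStab D (pt 23)
  rw [hm, card_stab_o1] at hmul
  have h16 : pc 24 (cmaskFW true false false true) = 16 := by decide
  rw [h16] at hmul
  have hle : P ≤ ptStab D (pt 23) := by
    intro g hg
    exact mem_ptStab.2 ⟨hPD hg, (mem_G1.1 (hP hg)).2⟩
  have hdvd := Subgroup.card_dvd_of_le hle
  rw [hcard] at hdvd
  have h20160 : Nat.card (ptStab D (pt 23)) = 20160 := by omega
  rw [h20160] at hdvd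
  norm_num at hdvd

theorem maskFW_cases : ∀ c0 c3 : Bool, cmaskFW false c0 true c3 = 786992 ∨ cmaskFW false c0 true c3 = 786999 ∨
    cmaskFW false c0 true c3 = 8388600 ∨ pc 24 (cmaskFW false c0 true c3) = 23 := by decide

/-- **if the normaliser has order 60, the point stabiliser preserves the tetrad** -/
theorem good_case (P : Subgroup (Equiv.Perm GolayPt)) (hP : P ≤ G1) (hcard : Nat.card P = 5760)
    (hf : f5 ∈ P) (hN : Nat.card (normF P) = 60) : P ≤ HSx := by
  -- the normaliser is everything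
  have heq : (normF P : Set (Equiv.Perm GolayPt)) = SF := by
    apply Set.eq_of_subset_of_ncard_le (normF_subset_SF hP) _ (Set.toFinite _)
    rw [← Nat.card_coe_set_eq (normF P : Set (Equiv.Perm GolayPt))]
    exact ncard_SF_le.trans (by rw [← hN]; rfl)
  have hw : w3 ∈ P := by
    have : w3 ∈ (normF P : Set (Equiv.Perm GolayPt)) := by rw [heq]; exact w3_mem_SF
    exact (Subgroup.mem_inf.1 this).1
  obtain ⟨c23, c0, c4, c3, horb, h23, h0, h4, h3⟩ := orbit_maskFW P hf hw (pt 4)
  have e23 : c23 = false := by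
    rw [← Bool.not_eq_true, ← h23]
    exact pt23_not_mem_orbit hP (by decide)
  have e4 : c4 = true := h4.1 (MulAction.mem_orbit_self _)
  subst e23 e4
  have hpres : ∀ g ∈ P, g • fs (cmaskFW false c0 true c3) = fs (cmaskFW false c0 true c3) :=
    fun g hg => smul_fs_eq_of_orbit horb hg
  rcases maskFW_cases c0 c3 with h | h | h | h
  · exfalso
    rw [h] at hpres
    exact no_preserved_five P hP hcard (fs 786992) (by decide) (by decide) hpres
  · exfalso
    rw [h] at hpres
    exact no_preserved_o1 P hP hcard hf hw hpres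
  · rw [h] at hpres
    intro g hg
    apply mem_HSx_of_smul_tet0 (mem_G1.1 (hP hg)).1
    have e : fs tet0 = Finset.univ \ fs 8388600 := by decide
    rw [e, Finset.smul_finset_sdiff, Finset.smul_finset_univ, hpres g hg]
  · exfalso
    have hm := card_orbit_of_mask horb
    have hmul := card_orbit_mul_card_ptStab P (pt 4)
    rw [hm, h, hcard] at hmul
    omega

/-- if the point stabiliser fixes the reference sextet, so does the group -/
theorem le_HSx_of_ptStab_le {K : Subgroup (Equiv.Perm GolayPt)} (hK : K ≤ M24) (hcard : Nat.card K = 138240)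
    (hstab : ∀ p, Nat.card (ptStab K p) = 5760) (htrans : ∀ p, ∃ g ∈ K, g (pt 23) = p)
    (hf : f5 ∈ K) (hP : ptStab K (pt 23) ≤ HSx) : K ≤ HSx := by
  apply le_HSx_of_card K hK hcard
  obtain ⟨a0, ha0K, ha0⟩ := htrans (pt 0)
  obtain ⟨g0, hg0K, hg0n, hg0⟩ := exists_norm_map hf f5_fix0 (by rw [hstab]; norm_num) ha0K ha0
  obtain ⟨a1, ha1K, ha1⟩ := htrans (pt 1)
  obtain ⟨g1, hg1K, hg1n, hg1⟩ := exists_norm_map hf f5_fix1 (by rw [hstab]; norm_num) ha1K ha1
  set I : Subgroup (Equiv.Perm GolayPt) := K ⊓ HSx with hI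
  have hg0I : g0 ∈ I := Subgroup.mem_inf.2 ⟨hg0K, mem_HSx_of_norm (hK hg0K) hg0n⟩
  have hg1I : g1 ∈ I := Subgroup.mem_inf.2 ⟨hg1K, mem_HSx_of_norm (hK hg1K) hg1n⟩
  have hsub : (↑({pt 23, pt 0, pt 1} : Finset GolayPt) : Set GolayPt) ⊆ MulAction.orbit I (pt 23) := by
    intro q hq
    rw [Finset.mem_coe] at hq
    simp only [Finset.mem_insert, Finset.mem_singleton] at hq
    rcases hq with rfl | rfl | rfl
    · exact MulAction.mem_orbit_self _
    · exact mem_orbit_sub.2 ⟨g0, hg0I, hg0⟩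
    · exact mem_orbit_sub.2 ⟨g1, hg1I, hg1⟩
  have h3 : 3 ≤ Nat.card (MulAction.orbit I (pt 23)) := by
    rw [Nat.card_coe_set_eq]
    have := Set.ncard_le_ncard hsub (Set.toFinite _)
    rw [Set.ncard_coe_finset] at this
    exact le_trans (by decide) this
  have hle : ptStab K (pt 23) ≤ ptStab I (pt 23) := by
    intro g hg
    exact mem_ptStab.2 ⟨Subgroup.mem_inf.2 ⟨(mem_ptStab.1 hg).1, hP hg⟩, (mem_ptStab.1 hg).2⟩
  have h5760 := Subgroup.card_le_of_le hle
  rw [hstab] at h5760
  have hmul := card_orbit_mul_card_ptStab I (pt 23)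
  have := Nat.mul_le_mul h3 h5760
  rw [hmul] at this
  omega

/-- the orbit lengths of a subgroup of order 138240 -/
theorem orbit_card_c : ∀ m : Fin 25, (m : ℕ) ∣ 138240 → (138240 / (m : ℕ)) ∣ 10200960 → (m : ℕ) = 24 := by
  decide

theorem orbit_card_of_card_c {K : Subgroup (Equiv.Perm GolayPt)} (hK : K ≤ M24) (hcard : Nat.card K = 138240)
    (p : GolayPt) : Nat.card (MulAction.orbit K p) = 24 ∧ Nat.card (ptStab K p) = 5760 := by
  have hmul := card_orbit_mul_card_ptStab K p
  rw [hcard] at hmul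
  have hdvd := card_ptStab_dvd hK p
  have hle := card_orbit_le K p
  have hpos := card_orbit_pos K p
  have h1 : Nat.card (MulAction.orbit K p) ∣ 138240 := Dvd.intro _ hmul
  have h2 : 138240 / Nat.card (MulAction.orbit K p) = Nat.card (ptStab K p) :=
    Nat.div_eq_of_eq_mul_right hpos hmul.symm
  have h24 := orbit_card_c ⟨Nat.card (MulAction.orbit K p), by omega⟩ h1 (by rw [h2]; exact hdvd)
  simp only [] at h24
  rw [h24] at hmul
  exact ⟨h24, by omega⟩

/-- a subgroup of order 138240 whose stabiliser of `∞` contains `f5` is the stabiliser of the reference sextet -/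
theorem eq_HSx_of_f5 (K : Subgroup (Equiv.Perm GolayPt)) (hK : K ≤ M24) (hcard : Nat.card K = 138240)
    (hf : f5 ∈ ptStab K (pt 23)) : K = HSx := by
  have hstab : ∀ p, Nat.card (ptStab K p) = 5760 := fun p => (orbit_card_of_card_c hK hcard p).2
  have htrans : ∀ p, ∃ g ∈ K, g (pt 23) = p := fun p =>
    exists_of_card_orbit (orbit_card_of_card_c hK hcard (pt 23)).1 p
  have hPle : ptStab K (pt 23) ≤ G1 := ptStab_le_fixL hK (pt 23)
  have hle : K ≤ HSx := by
    rcases card_normF (ptStab K (pt 23)) hPle hf (hstab _) with hN | hN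
    · exact (bad_case hK hstab htrans hf hN).elim
    · exact le_HSx_of_ptStab_le hK hcard hstab htrans (mem_ptStab.1 hf).1
        (good_case _ hPle (hstab _) hf hN)
  apply Subgroup.eq_of_le_of_card_ge hle
  rw [hcard, card_HSx]

/-- **a subgroup of order 138240 of `M24` is the stabiliser of a sextet** -/
theorem main_sextet (K : Subgroup (Equiv.Perm GolayPt)) (hK : K ≤ M24) (hcard : Nat.card K = 138240) :
    ∃ S ∈ sextets, ∀ g, g ∈ K ↔ g ∈ M24 ∧ g • S = S := by
  have hPle : ptStab K (pt 23) ≤ G1 := ptStab_le_fixL hK (pt 23)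
  have hPcard : Nat.card (ptStab K (pt 23)) = 5760 := (orbit_card_of_card_c hK hcard (pt 23)).2
  have : Fact (Nat.Prime 5) := ⟨by norm_num⟩
  obtain ⟨τ, hτ, hfP⟩ := exists_conj_mem (ptStab K (pt 23)) hPle 5 (by rw [card_G1]; norm_num)
    (by rw [hPcard]; norm_num) f5_mem_G1 orderOf_f5
  obtain ⟨hτM, hτ23⟩ := mem_G1.1 hτ
  set K' := K.map (MulAut.conj τ).toMonoidHom with hK'
  have hK'le : K' ≤ M24 := map_conj_le_M24 hτM hK
  have hK'card : Nat.card K' = 138240 := (M23Idx.card_map_conj τ K).trans hcard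
  have hP' : ptStab K' (pt 23) = (ptStab K (pt 23)).map (MulAut.conj τ).toMonoidHom := by
    have := ptStab_map_conj τ K (pt 23)
    rwa [hτ23] at this
  have hf' : f5 ∈ ptStab K' (pt 23) := by rw [hP']; exact hfP
  have heq := eq_HSx_of_f5 K' hK'le hK'card hf'
  have h2 : ∀ g, g ∈ K' ↔ g ∈ M24 ∧ g • sextet0 = sextet0 := by
    intro g
    rw [heq, mem_HSx]
  have h1 := mem_iff_of_map_conj hτM h2
  exact ⟨τ⁻¹ • sextet0, smul_mem_sextets (M24.inv_mem hτM) sextet0_mem, h1⟩

end Cfsg.Agent.Lib.Helper8.M24Idx
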