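import Cfsg.Agent.Lib.Helper8.M24Idx.Core2

/-!
# `M24` has no subgroup of index 253

Let `K` have order `967680 = |M24| / 253`.  Every orbit of `K` on the 24 points has 24 points (otherwise the order of
a point stabiliser of `K` does not divide `|M23|`), so the stabiliser `K₂₃` of `∞` has order 40320 and, after
conjugation, contains `z`; it is the stabiliser in `M23` of the duad `{7, 13}` or of the octad `o0`.  Counting Sylow
7-subgroups, the normaliser of `⟨z⟩` in `K` has order 126 and is transitive on the fixed points `∞, 7, 13` of `z`; let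
`σ` be an element of it with `σ ∞ = 7`.  In the octad case `K` contains the stabiliser of `7` and the octad
`σ o0 = o7` in `M24`, and an element of `K₂₃` times an element of that group has order 11.  In the duad case `K`
contains the stabiliser of `7` and the duad `{∞, 13}`; the stabiliser of the point `0` in `K` stabilises a duad, which
is contained in `{∞, 7, 13}` because the pointwise stabiliser of four points is transitive on the others, and each of
the three possibilities contradicts the structure of `K₂₃` or of `K₇`.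
-/

set_option autoImplicit false

namespace Cfsg.Agent.Lib.Helper8.M24Idx

open Cfsg Cfsg.Agent.Lib.Helper6.Golay Cfsg.Agent.Lib.Helper6.PermChain Cfsg.Agent.Lib.Helper8.M22Idx
  Cfsg.Agent.Lib.Helper8.M23Idx Cfsg.Agent.Lib.Helper8.M24Search
open scoped Pointwise

theorem z_mem_M24 : z ∈ M24 := z_mem

/-- an element normalising `⟨z⟩` maps fixed points of `z` to fixed points of `z` -/
theorem idx_image_of_normalizer {g : Equiv.Perm GolayPt}
    (hg : g ∈ Subgroup.normalizer ((Subgroup.zpowers z : Subgroup (Equiv.Perm GolayPt)) : Set (Equiv.Perm GolayPt)))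
    {q : GolayPt} (hq : z q = q) : idx (g q) = 7 ∨ idx (g q) = 13 ∨ idx (g q) = 23 := by
  have hn : g * z * g⁻¹ ∈ Subgroup.zpowers z := (Subgroup.mem_normalizer_iff.1 hg z).1 (Subgroup.mem_zpowers z)
  obtain ⟨k, hk1, hk2, hk⟩ := exists_exponent (by norm_num : 1 < 7) orderOf_z hn
  have h1 := pow_apply_of_fixed hk hq
  have h2 := z_tab ⟨k, hk2⟩ ⟨idx (g q), idx_lt _⟩
  simp only [] at h2
  rw [pt_idx, h1] at h2
  have h3 := z_fixed ⟨k, hk2⟩ ⟨idx (g q), idx_lt _⟩ (by simpa using hk1.ne') h2.symm
  simpa using h3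

theorem eq_pt_of_idx {p : GolayPt} {i : ℕ} (h : idx p = i) : p = pt i := by
  rw [← h, pt_idx]

/-- the octad formed by `7` and a cycle of `z` -/
def o7 : Finset GolayPt := fs 2130606

theorem o7_mem : o7 ∈ octads := fs_mem_octads (by decide +kernel) (by decide +kernel)

/-- the octads containing `7` and invariant under `z` -/
theorem zinv_octads : (List.range 4096).all (fun m =>
    !(pc 24 (combo m) == 8 && (combo m).testBit 7 && lmask zl (combo m) == combo m) || combo m == 2130606) = true := by
  decide +kernel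


/-- an element of the stabiliser of `∞` and `o0` -/
def g1l : List ℕ := [0, 7, 1, 12, 3, 14, 5, 4, 22, 21, 2, 17, 10, 9, 13, 6, 16, 20, 11, 8, 19, 15, 18, 23]

def g1il : List ℕ := [0, 2, 10, 4, 7, 6, 15, 1, 19, 13, 12, 18, 3, 14, 5, 21, 16, 11, 22, 20, 17, 9, 8, 23]

/-- an element of the stabiliser of `7` and `o7` -/
def g2l : List ℕ := [13, 15, 5, 21, 12, 9, 17, 7, 10, 3, 19, 0, 23, 4, 16, 2, 20, 6, 22, 11, 18, 1, 8, 14]

def g2il : List ℕ := [11, 21, 15, 9, 13, 2, 17, 7, 22, 5, 8, 19, 4, 0, 23, 1, 14, 6, 20, 10, 16, 3, 18, 12]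

def g1 : Equiv.Perm GolayPt where
  toFun := lfun g1l
  invFun := lfun g1il
  left_inv := by intro p; revert p; decide
  right_inv := by intro p; revert p; decide

def g2 : Equiv.Perm GolayPt where
  toFun := lfun g2l
  invFun := lfun g2il
  left_inv := by intro p; revert p; decide
  right_inv := by intro p; revert p; decide

theorem g1_coe : ⇑g1 = lfun g1l := rfl
theorem g2_coe : ⇑g2 = lfun g2l := rfl

theorem g1_mem : g1 ∈ M24 := mem_M24_of_basisTest (l := g1l) (by decide) g1_coe (by decide +kernel)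
theorem g2_mem : g2 ∈ M24 := mem_M24_of_basisTest (l := g2l) (by decide) g2_coe (by decide +kernel)

theorem g1_mem_Do : g1 ∈ Do := by
  refine mem_Do.2 ⟨g1_mem, by decide, ?_⟩
  rw [o0, smul_fs (by decide) g1_coe]
  decide

theorem g2_fix7 : g2 (pt 7) = pt 7 := by decide

theorem g2_smul_o7 : g2 • o7 = o7 := by
  rw [o7, smul_fs (by decide) g2_coe]
  decide

theorem g12_pow : (g1 * g2) ^ 11 = 1 := by
  apply Equiv.ext
  intro p; revert p; decide +kernel

theorem g12_ne_one : g1 * g2 ≠ 1 := by
  intro h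
  have := congrFun (congrArg (fun g : Equiv.Perm GolayPt => ⇑g) h) (pt 0)
  revert this; decide

theorem orderOf_g12 : orderOf (g1 * g2) = 11 :=
  haveI : Fact (Nat.Prime 11) := ⟨by norm_num⟩
  orderOf_eq_prime g12_pow g12_ne_one

/-- the arithmetic of orbit and stabiliser -/
theorem orbit_stab_arith {m s N : ℕ} (h1 : m * s = N) (h0 : 0 < m) : N % m = 0 ∧ s = N / m := by
  subst h1
  exact ⟨Nat.mul_mod_right m s, (Nat.mul_div_cancel_left s h0).symm⟩

/-- the image of `o0` under an element normalising `⟨z⟩` and mapping `∞` to `7` -/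
theorem smul_o0_eq_o7 {σ : Equiv.Perm GolayPt} (hσ : σ ∈ M24)
    (hσn : σ ∈ Subgroup.normalizer ((Subgroup.zpowers z : Subgroup (Equiv.Perm GolayPt)) : Set (Equiv.Perm GolayPt)))
    (hσ23 : σ (pt 23) = pt 7) : σ • o0 = o7 := by
  have hoct : σ • o0 ∈ octads := smul_mem_octads hσ o0_mem
  have h7 : pt 7 ∈ σ • o0 := by
    rw [← hσ23]
    exact Finset.smul_mem_smul_finset pt23_mem_o0
  have hzinv : z • (σ • o0) = σ • o0 := by
    have hn : σ⁻¹ * z * σ ∈ Subgroup.zpowers z := by
      have := (Subgroup.mem_normalizer_iff.1 (Subgroup.inv_mem _ hσn) z).1 (Subgroup.mem_zpowers z)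
      rwa [inv_inv] at this
    have hDo : σ⁻¹ * z * σ ∈ Do := by
      have hzDo : z ∈ Do := NZ_le_Do z_mem_NZ
      exact (Subgroup.zpowers_le.2 hzDo) hn
    have h1 : (σ⁻¹ * z * σ) • o0 = o0 := (mem_Do.1 hDo).2.2
    rw [mul_smul, mul_smul, inv_smul_eq_iff] at h1
    exact h1
  obtain ⟨n, hn, h8, hfs⟩ := (mem_octads_iff _).1 hoct
  rw [hfs] at h7 hzinv ⊢
  rw [smul_fs (by decide) z_coe] at hzinv
  have hlm : lmask zl n = n := fs_injOn (lmask_lt zl (by decide) n) (lt_of_inCode hn) hzinv
  obtain ⟨m, hm, rfl⟩ := (inCode_iff n).1 hn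
  have hchk := List.all_eq_true.1 zinv_octads m (List.mem_range.2 hm)
  rw [mem_fs, idx_pt 7 (by norm_num)] at h7
  rw [h8, h7, hlm] at hchk
  simp only [beq_self_eq_true, Bool.and_self, Bool.not_true, Bool.false_or, beq_iff_eq] at hchk
  rw [hchk, o7]

end Cfsg.Agent.Lib.Helper8.M24Idx
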