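import Cfsg.Agent.Lib.Helper8.M24Idx.PartD

/-!
# `M24` has no subgroup of index 253: the main argument
-/

set_option autoImplicit false

namespace Cfsg.Agent.Lib.Helper8.M24Idx

open Cfsg Cfsg.Agent.Lib.Helper6.Golay Cfsg.Agent.Lib.Helper6.PermChain Cfsg.Agent.Lib.Helper8.M22Idx
  Cfsg.Agent.Lib.Helper8.M23Idx Cfsg.Agent.Lib.Helper8.M24Search
open scoped Pointwise

/-- `M24` maps a list of at most five distinct points to any other such list -/
theorem exists_M24_map_list (l l' : List GolayPt) (hl : l.Nodup) (hl' : l'.Nodup) (hlen : l.length = l'.length)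
    (h5 : l.length ≤ 5) :
    ∃ g ∈ M24, ∀ (i : ℕ) (hi : i < l.length), g (l.get ⟨i, hi⟩) = l'.get ⟨i, hlen ▸ hi⟩ := by
  let x : Fin l.length ↪ GolayPt := ⟨l.get, List.nodup_iff_injective_get.1 hl⟩
  let y : Fin l.length ↪ GolayPt := ⟨fun i => l'.get (i.cast hlen), fun i j h => by
    have := List.nodup_iff_injective_get.1 hl' h
    exact Fin.cast_injective hlen this⟩
  obtain ⟨g, hg, hxy⟩ := exists_M24_map h5 x y
  exact ⟨g, hg, fun i hi => hxy ⟨i, hi⟩⟩

/-- the stabiliser of the point `∞` in a subgroup of order 967680 of `M24` has order 40320, and the subgroup is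
transitive -/
theorem card_ptStab_of_card_967680 (K : Subgroup (Equiv.Perm GolayPt)) (hK : K ≤ M24)
    (hcard : Nat.card K = 967680) (p : GolayPt) :
    Nat.card (MulAction.orbit K p) = 24 ∧ Nat.card (ptStab K p) = 40320 := by
  have horb := card_orbit_mul_card_ptStab K p
  have hdvd := card_ptStab_dvd hK p
  have hle := card_orbit_le K p
  have hpos := card_orbit_pos K p
  rw [hcard] at horb
  obtain ⟨h1, h2⟩ := orbit_stab_arith horb hpos
  rw [h2] at hdvd
  have key := (by decide : ∀ m : Fin 25, (m : ℕ) ≠ 0 → 967680 % (m : ℕ) = 0 →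
    10200960 % (967680 / (m : ℕ)) = 0 → (m : ℕ) = 24) ⟨_, Nat.lt_succ_of_le hle⟩ hpos.ne' h1
    (Nat.mod_eq_zero_of_dvd hdvd)
  simp only [] at key
  rw [key] at h2
  exact ⟨key, h2⟩

/-- the element `σ` -/
theorem exists_sigma (K : Subgroup (Equiv.Perm GolayPt)) (hK : K ≤ M24) (hcard : Nat.card K = 967680)
    (hz : z ∈ K) (hNZ : NZ ≤ K) :
    ∃ σ ∈ K, σ ∈ Subgroup.normalizer ((Subgroup.zpowers z : Subgroup (Equiv.Perm GolayPt)) :
      Set (Equiv.Perm GolayPt)) ∧ σ (pt 23) = pt 7 := by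
  have : Fact (Nat.Prime 7) := ⟨by norm_num⟩
  obtain ⟨n, hn, hmod⟩ := sylow_count_normalizer K z hz 7 orderOf_z (by rw [hcard]; norm_num)
  set N : Subgroup (Equiv.Perm GolayPt) :=
    K ⊓ Subgroup.normalizer ((Subgroup.zpowers z : Subgroup (Equiv.Perm GolayPt)) : Set (Equiv.Perm GolayPt))
    with hN
  have hN23 : ptStab N (pt 23) = NZ := by
    apply le_antisymm
    · intro g hg
      obtain ⟨h1, h2⟩ := mem_ptStab.1 hg
      obtain ⟨h3, h4⟩ := Subgroup.mem_inf.1 h1
      exact Subgroup.mem_inf.2 ⟨mem_G1.2 ⟨hK h3, h2⟩, h4⟩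
    · intro g hg
      obtain ⟨h1, h2⟩ := Subgroup.mem_inf.1 hg
      exact mem_ptStab.2 ⟨Subgroup.mem_inf.2 ⟨hNZ hg, h2⟩, (mem_G1.1 h1).2⟩
  have horbN := card_orbit_mul_card_ptStab N (pt 23)
  rw [hN23, card_NZ] at horbN
  -- the orbit is contained in the set of fixed points of `z`
  have hsub : MulAction.orbit N (pt 23) ⊆ (↑({pt 7, pt 13, pt 23} : Finset GolayPt) : Set GolayPt) := by
    intro q hq
    obtain ⟨g, hg, rfl⟩ := mem_orbit_sub.1 hq
    have := idx_image_of_normalizer (Subgroup.mem_inf.1 hg).2 z_fix23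
    rw [Finset.mem_coe]
    simp only [Finset.mem_insert, Finset.mem_singleton]
    rcases this with h | h | h
    · exact Or.inl (eq_pt_of_idx h)
    · exact Or.inr (Or.inl (eq_pt_of_idx h))
    · exact Or.inr (Or.inr (eq_pt_of_idx h))
  have hle3 : Nat.card (MulAction.orbit N (pt 23)) ≤ 3 := by
    rw [Nat.card_coe_set_eq]
    have := Set.ncard_le_ncard hsub (Finset.finite_toSet _)
    rw [Set.ncard_coe_finset] at this
    exact this.trans (by decide)
  have hpos := card_orbit_pos N (pt 23)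
  have h3 : Nat.card (MulAction.orbit N (pt 23)) = 3 := by
    rw [hcard, ← horbN] at hn
    have hmod' : n % 7 = 1 := hmod
    set k := Nat.card (MulAction.orbit N (pt 23)) with hk
    interval_cases k <;> omega
  have heq : MulAction.orbit N (pt 23) = (↑({pt 7, pt 13, pt 23} : Finset GolayPt) : Set GolayPt) := by
    have hc : (MulAction.orbit N (pt 23)).ncard = 3 := by
      rw [← Nat.card_coe_set_eq]
      exact h3
    apply Set.eq_of_subset_of_ncard_le hsub _ (Finset.finite_toSet _)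
    rw [hc, Set.ncard_coe_finset]
    decide
  have h7 : pt 7 ∈ MulAction.orbit N (pt 23) := by
    rw [heq]
    simp
  obtain ⟨σ, hσ, hσ7⟩ := mem_orbit_sub.1 h7
  exact ⟨σ, (Subgroup.mem_inf.1 hσ).1, (Subgroup.mem_inf.1 hσ).2, hσ7⟩

/-- the octad case -/
theorem no_Do (K : Subgroup (Equiv.Perm GolayPt)) (hK : K ≤ M24) (hcard : Nat.card K = 967680)
    (hDo : Do ≤ K) {σ : Equiv.Perm GolayPt} (hσK : σ ∈ K)
    (hσn : σ ∈ Subgroup.normalizer ((Subgroup.zpowers z : Subgroup (Equiv.Perm GolayPt)) :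
      Set (Equiv.Perm GolayPt))) (hσ23 : σ (pt 23) = pt 7) : False := by
  have hσo := smul_o0_eq_o7 (hK hσK) hσn hσ23
  have hσinv : σ⁻¹ (pt 7) = pt 23 := by rw [Equiv.Perm.inv_eq_iff_eq, hσ23]
  have hconj : σ⁻¹ * g2 * σ ∈ Do := by
    refine mem_Do.2 ⟨M24.mul_mem (M24.mul_mem (M24.inv_mem (hK hσK)) g2_mem) (hK hσK), ?_, ?_⟩
    · show σ⁻¹ (g2 (σ (pt 23))) = pt 23
      rw [hσ23, g2_fix7, hσinv]
    · rw [mul_smul, mul_smul, hσo, g2_smul_o7, ← hσo, inv_smul_smul]
  have hg2 : g2 ∈ K := by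
    have h1 := K.mul_mem (K.mul_mem hσK (hDo hconj)) (K.inv_mem hσK)
    have e : σ * (σ⁻¹ * g2 * σ) * σ⁻¹ = g2 := by group
    rwa [e] at h1
  have hg12 : g1 * g2 ∈ K := K.mul_mem (hDo g1_mem_Do) hg2
  have h11 : orderOf (⟨g1 * g2, hg12⟩ : K) = 11 := by
    rw [Subgroup.orderOf_mk]; exact orderOf_g12
  have := orderOf_dvd_natCard (⟨g1 * g2, hg12⟩ : K)
  rw [h11, hcard] at this
  omega


/-- the duad `{13, ∞}` -/
def s7 : Finset GolayPt := fs 8396800

theorem s7_eq : s7 = {pt 13, pt 23} := by decide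

theorem nodup5 {a : GolayPt} (h23 : a ≠ pt 23) (h7 : a ≠ pt 7) (h13 : a ≠ pt 13) (h0 : a ≠ pt 0) :
    [pt 23, pt 7, pt 13, pt 0, a].Nodup := by
  have e : [pt 23, pt 7, pt 13, pt 0, a] = [pt 23, pt 7, pt 13, pt 0] ++ [a] := rfl
  rw [e, List.nodup_append]
  refine ⟨by decide, by simp, ?_⟩
  intro x hx y hy
  simp only [List.mem_singleton] at hy
  subst hy
  simp only [List.mem_cons, List.not_mem_nil, or_false] at hx
  rcases hx with rfl | rfl | rfl | rfl
  · exact Ne.symm h23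
  · exact Ne.symm h7
  · exact Ne.symm h13
  · exact Ne.symm h0

theorem smul_pair (g : Equiv.Perm GolayPt) (a b : GolayPt) :
    g • ({a, b} : Finset GolayPt) = {g a, g b} := by
  rw [Finset.smul_finset_insert, Finset.smul_finset_singleton]
  rfl

/-- the duad case -/
theorem no_Ds (K : Subgroup (Equiv.Perm GolayPt)) (hK : K ≤ M24) (hcard : Nat.card K = 967680)
    (hDs : ptStab K (pt 23) = Ds) {σ : Equiv.Perm GolayPt} (hσK : σ ∈ K)
    (hσn : σ ∈ Subgroup.normalizer ((Subgroup.zpowers z : Subgroup (Equiv.Perm GolayPt)) :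
      Set (Equiv.Perm GolayPt))) (hσ23 : σ (pt 23) = pt 7) : False := by
  have hσinv : σ⁻¹ (pt 7) = pt 23 := by rw [Equiv.Perm.inv_eq_iff_eq, hσ23]
  -- the image of the duad under `σ`
  have hσs : σ • s0 = s7 := by
    have h7 := idx_image_of_normalizer hσn z_fix7
    have h13 := idx_image_of_normalizer hσn z_fix13
    have hne7 : σ (pt 7) ≠ pt 7 := by
      intro h
      exact absurd (σ.injective (h.trans hσ23.symm)) (by decide)
    have hne13 : σ (pt 13) ≠ pt 7 := by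
      intro h
      exact absurd (σ.injective (h.trans hσ23.symm)) (by decide)
    have hne : σ (pt 7) ≠ σ (pt 13) := fun h => absurd (σ.injective h) (by decide)
    rw [s0_eq, smul_pair, s7_eq]
    rcases h7 with h7 | h7 | h7
    · exact absurd (eq_pt_of_idx h7) hne7
    · rcases h13 with h13 | h13 | h13
      · exact absurd (eq_pt_of_idx h13) hne13
      · exact absurd ((eq_pt_of_idx h7).trans (eq_pt_of_idx h13).symm) hne
      · rw [eq_pt_of_idx h7, eq_pt_of_idx h13]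
    · rcases h13 with h13 | h13 | h13
      · exact absurd (eq_pt_of_idx h13) hne13
      · rw [eq_pt_of_idx h7, eq_pt_of_idx h13, Finset.pair_comm]
      · exact absurd ((eq_pt_of_idx h7).trans (eq_pt_of_idx h13).symm) hne
  -- the stabiliser of `7` in `K`
  have hK7 : ∀ g ∈ K, g (pt 7) = pt 7 → g • s7 = s7 := by
    intro g hg h7
    have h1 : σ⁻¹ * g * σ ∈ ptStab K (pt 23) := by
      refine mem_ptStab.2 ⟨K.mul_mem (K.mul_mem (K.inv_mem hσK) hg) hσK, ?_⟩
      show σ⁻¹ (g (σ (pt 23))) = pt 23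
      rw [hσ23, h7, hσinv]
    rw [hDs] at h1
    have h2 := (mem_Ds.1 h1).2.2
    rw [mul_smul, mul_smul, inv_smul_eq_iff, hσs] at h2
    exact h2
  -- an element of `K` mapping `∞` to `0`
  obtain ⟨h, hhK, hh0⟩ := exists_of_card_orbit (card_ptStab_of_card_967680 K hK hcard (pt 23)).1 (pt 0)
  have hhinv : h⁻¹ (pt 0) = pt 23 := by rw [Equiv.Perm.inv_eq_iff_eq, hh0]
  set s' := h • s0 with hs'
  have hs'card : s'.card = 2 := by
    rw [hs', Finset.card_smul_finset, s0, card_fs]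
    decide
  have hs'0 : pt 0 ∉ s' := by
    intro h0
    obtain ⟨q, hq, hq0⟩ := Finset.mem_smul_finset.1 h0
    have : q = pt 23 := h.injective (hq0.trans hh0.symm)
    rw [this] at hq
    revert hq
    decide
  have hK0 : ∀ g ∈ K, g (pt 0) = pt 0 → g • s' = s' := by
    intro g hg h0
    have h1 : h⁻¹ * g * h ∈ ptStab K (pt 23) := by
      refine mem_ptStab.2 ⟨K.mul_mem (K.mul_mem (K.inv_mem hhK) hg) hhK, ?_⟩
      show h⁻¹ (g (h (pt 23))) = pt 23
      rw [hh0, h0, hhinv]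
    rw [hDs] at h1
    have h2 := (mem_Ds.1 h1).2.2
    rw [mul_smul, mul_smul, inv_smul_eq_iff] at h2
    exact h2
  have hK0' : ∀ g ∈ M24, g (pt 0) = pt 0 → g • s' = s' → g ∈ K := by
    intro g hgM h0 hs
    have h1 : h⁻¹ * g * h ∈ Ds := by
      refine mem_Ds.2 ⟨M24.mul_mem (M24.mul_mem (M24.inv_mem (hK hhK)) hgM) (hK hhK), ?_, ?_⟩
      · show h⁻¹ (g (h (pt 23))) = pt 23
        rw [hh0, h0, hhinv]
      · rw [mul_smul, mul_smul, inv_smul_eq_iff]
        exact hs
    rw [← hDs] at h1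
    have h2 := K.mul_mem (K.mul_mem hhK (ptStab_le K _ h1)) (K.inv_mem hhK)
    have e : h * (h⁻¹ * g * h) * h⁻¹ = g := by group
    rwa [e] at h2
  have hDsK : ∀ g ∈ Ds, g ∈ K := by
    intro g hg
    rw [← hDs] at hg
    exact ptStab_le K _ hg
  -- the pointwise stabiliser of four points
  have hP4 : ∀ g ∈ M24, g (pt 23) = pt 23 → g (pt 7) = pt 7 → g (pt 13) = pt 13 → g (pt 0) = pt 0 →
      g • s' = s' := by
    intro g hgM h23 h7 h13 h0
    have hgDs : g ∈ Ds := by
      refine mem_Ds.2 ⟨hgM, h23, ?_⟩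
      rw [s0_eq, smul_pair, h7, h13]
    exact hK0 g (hDsK g hgDs) h0
  have hsub : ∀ a ∈ s', a = pt 23 ∨ a = pt 7 ∨ a = pt 13 := by
    intro a ha
    by_contra hcon
    rw [not_or, not_or] at hcon
    have ha0 : a ≠ pt 0 := fun h => hs'0 (h ▸ ha)
    obtain ⟨e, he⟩ : ∃ e, e ∉ (({pt 23, pt 7, pt 13, pt 0} : Finset GolayPt) ∪ s') := by
      by_contra hall
      simp only [not_exists, not_not] at hall
      have h1 : (Finset.univ : Finset GolayPt) ⊆ ({pt 23, pt 7, pt 13, pt 0} : Finset GolayPt) ∪ s' :=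
        fun x _ => hall x
      have h2 := Finset.card_le_card h1
      rw [card_univ_golayPt] at h2
      have h3 := Finset.card_union_le ({pt 23, pt 7, pt 13, pt 0} : Finset GolayPt) s'
      have h4 : ({pt 23, pt 7, pt 13, pt 0} : Finset GolayPt).card = 4 := by decide
      omega
    rw [Finset.mem_union, not_or] at he
    obtain ⟨he1, he2⟩ := he
    simp only [Finset.mem_insert, Finset.mem_singleton, not_or] at he1
    obtain ⟨g, hgM, hg⟩ := exists_M24_map_list [pt 23, pt 7, pt 13, pt 0, a] [pt 23, pt 7, pt 13, pt 0, e]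
      (nodup5 hcon.1 hcon.2.1 hcon.2.2 ha0) (nodup5 he1.1 he1.2.1 he1.2.2.1 he1.2.2.2) rfl (by simp)
    have h23 : g (pt 23) = pt 23 := hg 0 (by simp)
    have h7 : g (pt 7) = pt 7 := hg 1 (by simp)
    have h13 : g (pt 13) = pt 13 := hg 2 (by simp)
    have h0 : g (pt 0) = pt 0 := hg 3 (by simp)
    have hae : g a = e := hg 4 (by simp)
    have h5 := hP4 g hgM h23 h7 h13 h0
    apply he2
    rw [← h5, ← hae]
    exact Finset.smul_mem_smul_finset ha
  -- the three possibilities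
  obtain ⟨x, y, hxy, hs'eq⟩ := Finset.card_eq_two.1 hs'card
  have hx := hsub x (by rw [hs'eq]; simp)
  have hy := hsub y (by rw [hs'eq]; simp)
  -- `∞ ∈ s'`
  have caseA : ∀ b' a' : GolayPt, (b' = pt 7 ∧ a' = pt 13 ∨ b' = pt 13 ∧ a' = pt 7) →
      s' = {pt 23, b'} → False := by
    intro b' a' hba hs
    have hnd : [pt 0, pt 23, b', a'].Nodup ∧ [pt 0, pt 23, b', pt 1].Nodup ∧ a' ∈ s0 := by
      rcases hba with ⟨rfl, rfl⟩ | ⟨rfl, rfl⟩ <;> decide
    obtain ⟨g, hgM, hg⟩ := exists_M24_map_list [pt 0, pt 23, b', a'] [pt 0, pt 23, b', pt 1]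
      hnd.1 hnd.2.1 rfl (by simp)
    have h0 : g (pt 0) = pt 0 := hg 0 (by simp)
    have h23 : g (pt 23) = pt 23 := hg 1 (by simp)
    have hb : g b' = b' := hg 2 (by simp)
    have ha : g a' = pt 1 := hg 3 (by simp)
    have hgs : g • s' = s' := by rw [hs, smul_pair, h23, hb]
    have hgK := hK0' g hgM h0 hgs
    have hgDs : g ∈ Ds := by
      rw [← hDs]
      exact mem_ptStab.2 ⟨hgK, h23⟩
    have h1 := (mem_Ds.1 hgDs).2.2
    have h2 : g a' ∈ g • s0 := Finset.smul_mem_smul_finset hnd.2.2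
    rw [h1, ha] at h2
    revert h2
    decide
  -- `s' = {7, 13}`
  have caseB : s' = {pt 7, pt 13} → False := by
    intro hs
    obtain ⟨g, hgM, hg⟩ := exists_M24_map_list [pt 0, pt 7, pt 13, pt 23] [pt 0, pt 7, pt 13, pt 1]
      (by decide) (by decide) rfl (by simp)
    have h0 : g (pt 0) = pt 0 := hg 0 (by simp)
    have h7 : g (pt 7) = pt 7 := hg 1 (by simp)
    have h13 : g (pt 13) = pt 13 := hg 2 (by simp)
    have h23 : g (pt 23) = pt 1 := hg 3 (by simp)
    have hgs : g • s' = s' := by rw [hs, smul_pair, h7, h13]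
    have hgK := hK0' g hgM h0 hgs
    have h1 := hK7 g hgK h7
    have h2 : g (pt 23) ∈ g • s7 := Finset.smul_mem_smul_finset (by decide)
    rw [h1, h23] at h2
    revert h2
    decide
  rcases hx with rfl | rfl | rfl <;> rcases hy with rfl | rfl | rfl
  · exact hxy rfl
  · exact caseA (pt 7) (pt 13) (Or.inl ⟨rfl, rfl⟩) hs'eq
  · exact caseA (pt 13) (pt 7) (Or.inr ⟨rfl, rfl⟩) hs'eq
  · exact caseA (pt 7) (pt 13) (Or.inl ⟨rfl, rfl⟩) (by rw [hs'eq, Finset.pair_comm])
  · exact hxy rfl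
  · exact caseB hs'eq
  · exact caseA (pt 13) (pt 7) (Or.inr ⟨rfl, rfl⟩) (by rw [hs'eq, Finset.pair_comm])
  · exact caseB (by rw [hs'eq, Finset.pair_comm])
  · exact hxy rfl

/-- **`M24` has no subgroup of order 967680**, if the subgroup contains `z` -/
theorem no_card_967680_aux (K : Subgroup (Equiv.Perm GolayPt)) (hK : K ≤ M24) (hcard : Nat.card K = 967680)
    (hz : z ∈ K) : False := by
  obtain ⟨-, h23card⟩ := card_ptStab_of_card_967680 K hK hcard (pt 23)
  have hle : ptStab K (pt 23) ≤ G1 := ptStab_le_fixL hK (pt 23)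
  have hz23 : z ∈ ptStab K (pt 23) := mem_ptStab.2 ⟨hz, z_fix23⟩
  rcases main_pt23 (ptStab K (pt 23)) hle h23card hz23 with hD | hD
  · have hNZ : NZ ≤ K := fun g hg => ptStab_le K _ (by rw [hD]; exact NZ_le_Ds hg)
    obtain ⟨σ, hσK, hσn, hσ23⟩ := exists_sigma K hK hcard hz hNZ
    exact no_Ds K hK hcard hD hσK hσn hσ23
  · have hNZ : NZ ≤ K := fun g hg => ptStab_le K _ (by rw [hD]; exact NZ_le_Do hg)
    obtain ⟨σ, hσK, hσn, hσ23⟩ := exists_sigma K hK hcard hz hNZ
    have hDoK : Do ≤ K := fun g hg => ptStab_le K _ (by rw [hD]; exact hg)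
    exact no_Do K hK hcard hDoK hσK hσn hσ23

theorem map_conj_le_M24 {τ : Equiv.Perm GolayPt} (hτ : τ ∈ M24) {K : Subgroup (Equiv.Perm GolayPt)}
    (hK : K ≤ M24) : K.map (MulAut.conj τ).toMonoidHom ≤ M24 := by
  rintro _ ⟨g, hg, rfl⟩
  show τ * g * τ⁻¹ ∈ M24
  exact M24.mul_mem (M24.mul_mem hτ (hK hg)) (M24.inv_mem hτ)

/-- **`M24` has no subgroup of order 967680** -/
theorem no_card_967680 (K : Subgroup (Equiv.Perm GolayPt)) (hK : K ≤ M24) : Nat.card K ≠ 967680 := by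
  intro hcard
  have : Fact (Nat.Prime 7) := ⟨by norm_num⟩
  obtain ⟨τ, hτ, hzK'⟩ := exists_conj_mem K hK 7 (by rw [card_M24]; norm_num) (by rw [hcard]; norm_num)
    z_mem orderOf_z
  exact no_card_967680_aux _ (map_conj_le_M24 hτ hK) ((card_map_conj τ K).trans hcard) hzK'

end Cfsg.Agent.Lib.Helper8.M24Idx
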